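import Mathlib
import Cfsg.Agent.Lib.Sz.Aut
import Cfsg.Agent.Lib.GW.KPSLc
import Cfsg.Agent.Lib.Ward.BorL

/-! Semilinear groups of a finite field that are transitive on the additive subgroups of order `p ^ 2`. -/

set_option autoImplicit false

namespace CfsgLib.WCor4

open Subgroup Matrix MatrixGroups CfsgLib.Dickson SemidirectProduct

variable {F : Type*} [Field F]

/-- the maps `x ↦ a * σ x`, `σ ∈ Γ`, permute the additive subgroups of order `p ^ 2` transitively -/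
def Tr (p : ℕ) (Γ : Subgroup (F ≃+* F)) : Prop := ∀ W W' : AddSubgroup F, Nat.card W = p ^ 2 → Nat.card W' = p ^ 2 →
  ∃ a : F, ∃ σ ∈ Γ, ∀ w' ∈ W', ∃ w ∈ W, w' = a * σ w

section
variable {p : ℕ} [hp : Fact p.Prime] [CharP F p] {Γ : Subgroup (F ≃+* F)}

theorem exists_plane {b : F} (hb : ∀ i : ZMod p, (i.cast : F) ≠ b) :
    ∃ W : AddSubgroup F, Nat.card W = p ^ 2 ∧ ∀ w, w ∈ W ↔ ∃ i j : ZMod p, w = i.cast + j.cast * b := by
  let c := ZMod.castHom (dvd_refl p) F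
  let f : ZMod p × ZMod p →+ F := c.toAddMonoidHom.coprod ((AddMonoidHom.mulRight b).comp c.toAddMonoidHom)
  have hf : Function.Injective f := (injective_iff_map_eq_zero f).2 fun ⟨i, j⟩ h => by
    change c i + c j * b = 0 at h
    by_cases hj : j = 0
    · simpa [hj] using h
    refine absurd ?_ (hb (-i / j))
    change c _ = _
    rw [map_div₀, map_neg, div_eq_iff ((map_ne_zero c).2 hj)]
    linear_combination -h
  refine ⟨f.range, ?_, fun w => ⟨fun ⟨⟨i, j⟩, h⟩ => ⟨i, j, h.symm⟩, fun ⟨i, j, h⟩ => ⟨(i, j), h.symm⟩⟩⟩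
  rw [← Nat.card_congr (AddMonoidHom.ofInjective hf).toEquiv, Nat.card_prod, Nat.card_zmod, pow_two]

theorem Tr.surj (h : Tr p Γ) {b₀ : F} (h0 : ∀ i : ZMod p, (i.cast : F) ≠ b₀) (b : F) :
    ∃ σ ∈ Γ, ∃ (o : Option (ZMod p)) (i j : ZMod p),
      b = σ ((i.cast + j.cast * b₀) / o.elim 1 fun k => k.cast + b₀) := by
  let c := ZMod.castHom (dvd_refl p) F
  by_cases hb : ∃ i : ZMod p, (i.cast : F) = b
  · obtain ⟨i, rfl⟩ := hb
    exact ⟨1, one_mem _, none, i, 0, by simp⟩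
  obtain ⟨W, h1, h2⟩ := exists_plane h0
  obtain ⟨W', h3, h4⟩ := exists_plane (not_exists.1 hb)
  obtain ⟨a, σ, hσ, h5⟩ := h W W' h1 h3
  obtain ⟨v, hv, e1⟩ := h5 1 ((h4 _).2 ⟨1, 0, by simp⟩)
  obtain ⟨w, hw, e2⟩ := h5 b ((h4 _).2 ⟨0, 1, by simp⟩)
  have hv0 : v ≠ 0 := by rintro rfl; simp at e1
  have e : b = σ (w / v) := by
    rw [map_div₀, eq_div_iff ((map_ne_zero σ).2 hv0), e2, mul_right_comm, ← e1, one_mul]
  obtain ⟨k, l, rfl⟩ := (h2 v).1 hv
  obtain ⟨i, j, rfl⟩ := (h2 w).1 hw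
  change b = σ ((c i + c j * b₀) / (c k + c l * b₀)) at e
  change c k + c l * b₀ ≠ 0 at hv0
  by_cases hl : l = 0
  · refine ⟨σ, hσ, none, i / k, j / k, e.trans (congrArg σ ?_)⟩
    change _ = (c _ + c _ * b₀) / 1
    rw [hl, map_zero, zero_mul, add_zero, map_div₀, map_div₀]
    ring
  · refine ⟨σ, hσ, some (k / l), i / l, j / l, e.trans (congrArg σ ?_)⟩
    change _ = (c _ + c _ * b₀) / (c _ + b₀)
    have := (map_ne_zero c).2 hl
    rw [map_div₀, map_div₀, map_div₀, ← mul_div_mul_left _ (_ + b₀) this]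
    congr 1 <;> field_simp

variable [Finite F]

theorem Tr.card_le (h : Tr p Γ) (hF : p < Nat.card F) : Nat.card F ≤ Nat.card Γ * ((p + 1) * p ^ 2) := by
  obtain ⟨b₀, h0⟩ : ∃ b₀ : F, ∀ i : ZMod p, (i.cast : F) ≠ b₀ := by
    by_contra! h1
    have := Nat.card_le_card_of_surjective _ h1
    rw [Nat.card_zmod] at this
    omega
  have := Nat.card_le_card_of_surjective (fun x : Γ × Option (ZMod p) × ZMod p × ZMod p =>
    (x.1 : F ≃+* F) ((x.2.2.1.cast + x.2.2.2.cast * b₀) / x.2.1.elim 1 fun k => k.cast + b₀)) fun b => by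
      obtain ⟨σ, hσ, o, i, j, e⟩ := h.surj h0 b
      exact ⟨(⟨σ, hσ⟩, o, i, j), e.symm⟩
  rwa [Nat.card_prod, Nat.card_prod, Nat.card_prod, Finite.card_option, Nat.card_zmod, ← pow_two] at this

theorem Tr.odd (h : Tr p Γ) (h2 : p ≠ 2) {f : ℕ} (hF : Nat.card F = p ^ f) (hf : Odd f) : f = 1 ∨ f = 3 := by
  by_contra! hn
  obtain ⟨k, rfl⟩ : ∃ k, f = k + 5 := ⟨f - 5, by obtain ⟨j, rfl⟩ := hf; omega⟩
  have h3 : 3 ≤ p := (hp.out.two_le.lt_of_ne h2.symm)
  have h4 := h.card_le (hF ▸ lt_self_pow₀ (by omega) (by omega))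
  have h5 := Γ.card_le_card_group
  rw [Sz.card_ringEquiv hF] at h5
  have h6 : k < p ^ k := Nat.lt_pow_self (by omega)
  rw [hF, show p ^ (k + 5) = p ^ k * p ^ 3 * p ^ 2 by ring, ← mul_assoc] at h4
  have h7 := (Nat.le_of_mul_le_mul_right h4 (by positivity)).trans (Nat.mul_le_mul_right _ h5)
  have h8 : 9 * p ≤ p ^ 3 := by nlinarith
  nlinarith [Nat.mul_le_mul h6 h8]

end

theorem zmod_two : ∀ i : ZMod 2, i = 0 ∨ i = 1 := by decide

theorem Tr.two [Finite F] {Γ : Subgroup (F ≃+* F)} (h : Tr 2 Γ) {f : ℕ} (hF : Nat.card F = 2 ^ f) (hf : 2 ≤ f) :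
    f = 2 ∨ f = 3 ∨ f = 5 ∧ Γ = ⊤ := by
  have : Fact (Nat.Prime 2) := ⟨Nat.prime_two⟩
  have := Fintype.ofFinite F
  have : CharP F 2 := charP_of_card_eq_prime_pow (by rwa [← Nat.card_eq_fintype_card])
  have h4 := h.card_le (hF ▸ lt_self_pow₀ (by omega) (by omega))
  have h5 := Γ.card_subgroup_dvd_card
  rw [Sz.card_ringEquiv hF] at h5
  rcases Nat.even_or_odd f with ⟨k, rfl⟩ | ⟨k, rfl⟩
  · have : Fact (Nat.Prime 3) := ⟨Nat.prime_three⟩
    obtain ⟨ω, hω⟩ := exists_prime_orderOf_dvd_card' (G := Fˣ) 3 (by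
      rw [Nat.card_units, hF, ← two_mul, pow_mul]; exact Nat.sub_one_dvd_pow_sub_one 4 k)
    have h6 : ∀ i : ZMod 2, (i.cast : F) ≠ ω := fun i e => by
      rcases zmod_two i with rfl | rfl
      · exact ω.ne_zero (by simpa using e.symm)
      · rw [show ω = 1 from Units.ext (by simpa using e.symm)] at hω
        simp at hω
    have h7 : (ω : F) ^ 2 ^ 2 = ω := by
      rw [show 2 ^ 2 = 3 + 1 from rfl, pow_succ, ← Units.val_pow_eq_pow_val, ← hω, pow_orderOf_eq_one]; simp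
    have h8 : ∀ i : ZMod 2, (i.cast : F) ^ 2 ^ 2 = i.cast := fun i => by
      rcases zmod_two i with rfl | rfl <;> simp
    have h9 : ∀ b : F, b ^ 2 ^ 2 = b := fun b => by
      obtain ⟨σ, -, o, i, j, rfl⟩ := h.surj h6 b
      rw [← map_pow, div_pow, add_pow_char_pow, mul_pow, h8, h8, h7]
      cases o
      · simp
      · simp only [Option.elim]; rw [add_pow_char_pow, h8, h7]
    obtain ⟨g, hg⟩ := IsCyclic.exists_ofOrder_eq_natCard (α := Fˣ)
    have := Nat.le_of_dvd (by norm_num) (orderOf_dvd_of_pow_eq_one (x := g) (n := 3) (Units.ext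
      (mul_left_cancel₀ g.ne_zero (by simpa [pow_succ'] using h9 g))))
    rw [hg, Nat.card_units, hF] at this
    have := (Nat.pow_le_pow_iff_right (by norm_num : 1 < 2)).1 (show 2 ^ (k + k) ≤ 2 ^ 2 by omega)
    omega
  · have h6 := Nat.le_of_dvd (by omega) h5
    obtain _ | _ | _ | k := k
    · omega
    · omega
    · refine .inr (.inr ⟨rfl, eq_top_of_card_eq _ ?_⟩)
      rw [Sz.card_ringEquiv hF]
      refine ((Nat.dvd_prime Nat.prime_five).1 h5).resolve_left fun e => ?_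
      rw [hF, e] at h4
      omega
    · have : k < 2 ^ k := Nat.lt_two_pow_self
      rw [hF, show 2 ^ (2 * (k + 1 + 1 + 1) + 1) = 2 ^ k * 2 ^ k * 128 by ring] at h4
      nlinarith

open GW.KP in
/-- a normal subgroup isomorphic to `PSL(2, F)` -/
theorem exists_rho [Finite F] {Y : Type*} [Group Y] (L : Subgroup Y) [L.Normal] (e : L ≃* PSL(2, F)) :
    ∃ ρ : Y →* PGam F, (∀ l : L, ρ l = inl (pslPGL F (e l))) ∧ (centralizer (L : Set Y) = ⊥ → Function.Injective ρ ∧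
      (Function.Surjective ρ → Nonempty (Y ≃* MulAut PSL(2, F)))) := by
  obtain ⟨Ψ, h1, h2⟩ := exists_psi (F := F)
  let κ : Y →* MulAut PSL(2, F) := (MulAut.congr e).toMonoidHom.comp MulAut.conjNormal
  refine ⟨Ψ.comp κ, fun l => ?_, fun hC => ?_⟩
  · rw [← h2]
    change Ψ _ = Ψ _
    congr 1
    ext s
    obtain ⟨s, rfl⟩ := e.surjective s
    simp [κ, MulAut.conjNormal_val]
  have hκ : Function.Injective κ := (injective_iff_map_eq_one _).2 fun a ha => by
    have h4 : (MulAut.conjNormal a : MulAut L) = 1 := (MulAut.congr e).injective (ha.trans (map_one _).symm)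
    rw [← mem_bot, ← hC]
    intro l hl
    have h5 := congrArg Subtype.val (DFunLike.congr_fun h4 ⟨l, hl⟩)
    rw [MulAut.conjNormal_apply] at h5
    exact (mul_inv_eq_iff_eq_mul.1 h5).symm
  exact ⟨h1.comp hκ, fun hs => ⟨MulEquiv.ofBijective κ ⟨hκ, fun α => (hs (Ψ α)).imp fun y hy => h1 hy⟩⟩⟩

open GW.KP in
theorem tr_of_conj {Y : Type*} [Group Y] {L : Subgroup Y} {e : L ≃* PSL(2, F)} {ρ : Y →* PGam F}
    (hρ : ∀ l : L, ρ l = inl (pslPGL F (e l))) {p : ℕ} (hp : 1 < p)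
    (h : ∀ A B : Subgroup Y, IsMulCommutative A → IsMulCommutative B → Nat.card A = p ^ 2 → Nat.card B = p ^ 2 →
      ∃ g : Y, B = A.map (MulAut.conj g).toMonoidHom) : Tr p (rightHom.comp ρ).range := by
  let ι : Multiplicative F →* Y := L.subtype.comp (e.symm.toMonoidHom.comp (Ward.pQ F))
  have hι : Function.Injective ι := L.subtype_injective.comp (e.symm.injective.comp Ward.pQ_injective)
  have h1 : ∀ b : F, ρ (ι (.ofAdd b)) = inl (aff 1 b one_ne_zero) := fun b => by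
    rw [← slPGL_uu]
    exact (hρ _).trans (by simp [Ward.pQ])
  intro W W' hW hW'
  have hc : ∀ V : AddSubgroup F, Nat.card (V.toSubgroup.map ι) = Nat.card V := fun V => card_map_of_injective hι
  obtain ⟨g, hg⟩ := h (W.toSubgroup.map ι) (W'.toSubgroup.map ι) inferInstance inferInstance
    ((hc W).trans hW) ((hc W').trans hW')
  have h2 : ∀ w' ∈ W', ∃ w ∈ W, (ρ g).left * aff 1 ((ρ g).right w) one_ne_zero = aff 1 w' one_ne_zero * (ρ g).left := by
    intro w' hw'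
    obtain ⟨_, ⟨w, hw, rfl⟩, e⟩ := (hg ▸ mem_map_of_mem ι (show Multiplicative.ofAdd w' ∈ W'.toSubgroup from hw') :)
    have := congrArg ρ (show g * ι (.ofAdd w.toAdd) * g⁻¹ = _ from e)
    rw [map_mul, map_mul, map_inv, h1, h1, conj_inl, inl_inj, pglAut_apply, map_aff, mul_inv_eq_iff_eq_mul] at this
    refine ⟨w.toAdd, hw, .trans ?_ this⟩
    congr 1
    exact aff_congr (by simp) rfl
  have : Finite W' := Nat.finite_of_card_ne_zero (by rw [hW']; positivity)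
  have : Nontrivial W' := Finite.one_lt_card_iff_nontrivial.1 (hW' ▸ Nat.one_lt_pow two_ne_zero hp)
  obtain ⟨⟨v, hv⟩, h0⟩ := exists_ne (0 : W')
  have h3 : (ρ g).left • (P1.inf : P1 F) = P1.inf := by
    obtain ⟨w, -, h3⟩ := h2 v hv
    replace h3 := congrArg (· • (P1.inf : P1 F)) h3
    simp only [mul_smul, aff_smul_inf] at h3
    rcases P1.eq_inf_or ((ρ g).left • (P1.inf : P1 F)) with h | ⟨a, h⟩
    · exact h
    · rw [h, aff_smul_pt, P1.pt_inj] at h3
      exact absurd (Subtype.ext (by simpa using h3)) h0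
  obtain ⟨a, c, ha, h4⟩ := exists_aff h3
  refine ⟨a, (ρ g).right, ⟨g, rfl⟩, fun w' hw' => (h2 w' hw').imp fun w hw => ⟨hw.1, ?_⟩⟩
  have := hw.2
  rw [h4, aff_mul, aff_mul, aff_inj] at this
  linear_combination -this.2

end CfsgLib.WCor4
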