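import Mathlib
import Cfsg.Agent.Lib.WCor.In
import Cfsg.Agent.Lib.CIT.Simple
import Cfsg.Agent.Lib.CIT.AppEPPO

/-! Simple groups with at most one composite element order. -/

set_option autoImplicit false
set_option linter.style.haveILetI false

namespace CfsgLib.WCor4

open Subgroup Cfsg CfsgLib.Abel2 CfsgLib.CIT CfsgLib.CIT.App Matrix MatrixGroups

universe u

/-- a group without elements of order 4 has abelian Sylow 2-subgroups -/
theorem ab2_of_not_four {G : Type*} [Group G] [Finite G] (h : ¬ HasOrd G 4) : Ab2 G := by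
  haveI : Fact (Nat.Prime 2) := ⟨Nat.prime_two⟩
  intro S
  have h1 : ∀ x : S, x * x = 1 := fun x => by
    obtain ⟨k, hk⟩ := IsPGroup.iff_orderOf.1 S.isPGroup' x
    rw [← pow_two, ← orderOf_dvd_iff_pow_eq_one, hk]
    by_contra h2
    refine h (HasOrd.of_subgroup (K := (S : Subgroup G)) (HasOrd.of_dvd ⟨x, hk⟩ ?_))
    obtain _ | _ | k := k
    · simp at h2
    · simp at h2
    · exact ⟨2 ^ k, by ring⟩
  exact ⟨⟨fun a b => by
    rw [← inv_eq_of_mul_eq_one_right (h1 (a * b)), _root_.mul_inv_rev,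
      inv_eq_of_mul_eq_one_right (h1 a), inv_eq_of_mul_eq_one_right (h1 b)]⟩⟩

/-- two different odd primes dividing the order of `PSL₂(q)`, `q > 3` odd -/
theorem exists_two_primes {F : Type*} [Field F] [Fintype F] (hodd : Odd (Fintype.card F))
    (h3 : 3 < Fintype.card F) : ∃ r s : ℕ, r.Prime ∧ s.Prime ∧ r ≠ 2 ∧ s ≠ 2 ∧ r ≠ s ∧
      HasOrd PSL(2, F) r ∧ HasOrd PSL(2, F) s := by
  obtain ⟨p, hp⟩ := CharP.exists F
  obtain ⟨n, hpp, hn⟩ := FiniteField.card F p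
  have ho := psl2_odd_hasOrd hpp hn hodd
  obtain ⟨a, ha⟩ := id hodd
  have hpq : p ∣ Fintype.card F := hn ▸ dvd_pow_self p n.ne_zero
  have hp2 : p ≠ 2 := by rintro rfl; omega
  obtain ⟨d, hd, hd1, hdo, hdq⟩ : ∃ d, HasOrd PSL(2, F) d ∧ d ≠ 1 ∧ Odd d ∧
      Nat.Coprime d (Fintype.card F) := by
    rcases Nat.even_or_odd a with h | h
    · refine ⟨a + 1, (ho _).2 (Or.inr (Or.inr (by rw [ha]; exact ⟨1, by omega⟩))), by omega,
        h.add_one, ?_⟩
      rw [ha, show 2 * a + 1 = a + (a + 1) by ring, Nat.coprime_add_self_right]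
      simp
    · refine ⟨a, (ho _).2 (Or.inr (Or.inl (by rw [ha]; exact ⟨1, by omega⟩))), by omega, h, ?_⟩
      rw [ha]; simp
  obtain ⟨s, hs, hsd⟩ := Nat.exists_prime_and_dvd hd1
  refine ⟨p, s, hpp, hs, hp2, ?_, ?_, (ho _).2 (Or.inl dvd_rfl), hd.of_dvd hsd⟩
  · rintro rfl
    exact not_even_dvd_odd even_two hdo hsd
  · rintro rfl
    exact hs.one_lt.ne' (Nat.eq_one_of_dvd_coprimes hdq hsd hpq)

theorem IsJR.two_orders {G : Type*} [Group G] [Finite G] (h : IsJR G) :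
    ∃ r s : ℕ, r.Prime ∧ s.Prime ∧ r ≠ 2 ∧ s ≠ 2 ∧ r ≠ s ∧ HasOrd G (2 * r) ∧ HasOrd G (2 * s) := by
  obtain ⟨-, -, -, t, ht, -, E, hE, F, _, _, hodd, h3, N, -, ⟨e⟩, -⟩ := h
  obtain ⟨r, s, hr, hs, hr2, hs2, hrs, h1, h2⟩ := exists_two_primes hodd h3
  have key : ∀ r : ℕ, r.Prime → r ≠ 2 → HasOrd PSL(2, F) r → HasOrd G (2 * r) := fun r hr hr2 h => by
    obtain ⟨x, hx⟩ := (((hasOrd_congr e).2 h).of_subgroup : HasOrd E r)
    exact hasOrd_mul_of_commute (x := t) (y := x) (hE.2.2.1 t (mem_zpowers t) x x.2)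
      (ht ▸ dvd_rfl) (by rw [orderOf_coe, hx]) ((Nat.coprime_primes Nat.prime_two hr).2 hr2.symm)
  exact ⟨r, s, hr, hs, hr2, hs2, hrs, key r hr hr2 h1, key s hs hs2 h2⟩

/-- at most one composite element order -/
def OneC (G : Type*) [Group G] : Prop :=
  ∀ a b : ℕ, HasOrd G a → HasOrd G b → a ≠ 1 → ¬ a.Prime → b ≠ 1 → a ≠ b → b.Prime

theorem oneC_cases {G : Type u} [Group G] [Finite G] [hs : IsSimpleGroup G]
    (hG : ¬ IsMulCommutative G) (h : OneC G) :
    IsoL2Even G ∨ IsPSLOdd G ∨ Lie.IsoSuzuki G ∨ IsoL34 G := by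
  by_cases hC : IsCIT G
  · rcases cit_simple G hG hC with h1 | h1 | ⟨F, _, _, hF, e⟩ | ⟨F, _, _, hp, h7, -, e⟩ | h1
    · exact Or.inl h1
    · exact Or.inr (Or.inr (Or.inl h1))
    · exact Or.inr (Or.inl ⟨F, _, _, by rw [hF]; decide, by omega, e⟩)
    · exact Or.inr (Or.inl ⟨F, _, _, hp.odd_of_ne_two (by omega), by omega, e⟩)
    · exact Or.inr (Or.inr (Or.inr h1))
  · rw [App.isCIT_iff] at hC
    push Not at hC
    obtain ⟨r, hr, hr2, h1⟩ := hC
    have key : ∀ s : ℕ, s.Prime → HasOrd G (2 * s) → r = s := fun s hs h2 => by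
      by_contra hne
      exact Nat.not_prime_mul (by norm_num) hs.ne_one (h _ _ h1 h2 (by omega)
        (Nat.not_prime_mul (by norm_num) hr.ne_one) (by omega) (by omega))
    rcases classify WCor.inputs hs hG (ab2_of_not_four fun h4 => hr2 (key 2 Nat.prime_two h4)) with
      h2 | h2 | h2
    · exact Or.inl h2
    · exact Or.inr (Or.inl h2)
    · obtain ⟨a, b, ha, hb, -, -, hab, h3, h4⟩ := IsJR.two_orders h2
      exact absurd ((key a ha h3).symm.trans (key b hb h4)) hab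

section arith
variable {G : Type*} [Group G] [Finite G]

theorem OneC.even (h : OneC G) {n : ℕ} (hn : 3 ≤ n)
    (ho : ∀ k, HasOrd G k ↔ k ∣ 2 ∨ k ∣ 2 ^ n - 1 ∨ k ∣ 2 ^ n + 1) :
    n = 4 ∨ ∃ r : ℕ, (2 ^ n - 1).Prime ∧ r.Prime ∧ 2 ^ n + 1 = 3 * r := by
  have h8 : 2 ^ 3 ≤ 2 ^ n := Nat.pow_le_pow_right two_pos hn
  have ha : HasOrd G (2 ^ n - 1) := (ho _).2 (Or.inr (Or.inl dvd_rfl))
  have hb : HasOrd G (2 ^ n + 1) := (ho _).2 (Or.inr (Or.inr dvd_rfl))
  rcases three_dvd_sub_or_add n with h3 | ⟨r, hr⟩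
  · left
    have hna : ¬ (2 ^ n - 1).Prime := fun hp => by
      have := (Nat.prime_dvd_prime_iff_eq Nat.prime_three hp).1 h3
      omega
    obtain ⟨m, rfl | rfl⟩ := Nat.even_or_odd' n
    · have hm : 2 ^ 2 ≤ 2 ^ m := Nat.pow_le_pow_right two_pos (by omega)
      have e : 2 ^ (2 * m) - 1 = (2 ^ m + 1) * (2 ^ m - 1) := by
        rw [← Nat.sq_sub_sq, ← pow_mul, mul_comm m, one_pow]
      have h1 := h _ _ ha (ha.of_dvd ⟨_, e⟩) (by omega) hna (by omega) (by
        rw [e]; intro h1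
        have := Nat.eq_of_mul_eq_mul_left (by omega) (h1.trans (mul_one _).symm)
        omega)
      have h2 := h _ _ ha (ha.of_dvd ⟨_, e.trans (mul_comm _ _)⟩) (by omega) hna (by omega) (by
        rw [e]; intro h1
        have := Nat.eq_of_mul_eq_mul_right (by omega) (h1.trans (one_mul _).symm)
        omega)
      rw [e] at h3
      rcases (Nat.Prime.dvd_mul Nat.prime_three).1 h3 with h4 | h4
      · have := (Nat.prime_dvd_prime_iff_eq Nat.prime_three h1).1 h4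
        omega
      · have h5 := (Nat.prime_dvd_prime_iff_eq Nat.prime_three h2).1 h4
        have : 2 ^ m = 2 ^ 2 := by omega
        have := Nat.pow_right_injective le_rfl this
        omega
    · exfalso
      have h4 : 2 ^ (2 * m + 1) % 3 = 2 := by
        rw [pow_succ, pow_mul, Nat.mul_mod, Nat.pow_mod]; simp
      omega
  · right
    have hnb : ¬ (2 ^ n + 1).Prime := hr ▸ Nat.not_prime_mul (by norm_num) (by omega)
    exact ⟨r, h _ _ hb ha (by omega) hnb (by omega) (by omega),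
      h _ _ hb (hb.of_dvd ⟨3, by rw [hr, mul_comm]⟩) (by omega) hnb (by omega) (by omega), hr⟩

theorem OneC.odd (h : OneC G) {p n : ℕ} (hp : p.Prime) (hodd : Odd (p ^ n)) (h3 : 3 < p ^ n)
    (ho : ∀ k, HasOrd G k ↔ k ∣ p ∨ k ∣ (p ^ n - 1) / 2 ∨ k ∣ (p ^ n + 1) / 2) :
    (p ^ n = 5 ∨ p ^ n = 7 ∨ p ^ n = 9 ∨ p ^ n = 11 ∨ p ^ n = 13) ∨
      (p = 3 ∧ ∃ r s : ℕ, r.Prime ∧ s.Prime ∧ p ^ n - 1 = 2 * r ∧ p ^ n + 1 = 4 * s) := by
  obtain ⟨a, ha⟩ := hodd
  have e1 : (p ^ n - 1) / 2 = a := by omega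
  have e2 : (p ^ n + 1) / 2 = a + 1 := by omega
  rw [e1, e2] at ho
  have h1 : HasOrd G a := (ho _).2 (Or.inr (Or.inl dvd_rfl))
  have h2 : HasOrd G (a + 1) := (ho _).2 (Or.inr (Or.inr dvd_rfl))
  have key : ∀ s d : ℕ, HasOrd G (2 * s) → HasOrd G d → s ≠ 1 → d ≠ 1 → d ≠ 2 * s →
      s.Prime ∧ d.Prime := fun s d hs hd hs1 hd1 hne => by
    have hs0 := hs.pos
    have hn := Nat.not_prime_mul (show 2 ≠ 1 by norm_num) hs1
    exact ⟨h _ _ hs (hs.of_dvd (Dvd.intro_left 2 rfl)) (by omega) hn hs1 (by omega),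
      h _ _ hs hd (by omega) hn hd1 hne.symm⟩
  have three : ∀ x : ℕ, x.Prime → ¬ x % 3 = 0 ∨ x = 3 := fun x hx => imp_iff_not_or.1 fun h =>
    ((Nat.prime_dvd_prime_iff_eq Nat.prime_three hx).1 (Nat.dvd_of_mod_eq_zero h)).symm
  have hp3 : p ^ n % 3 = 0 → p = 3 := fun h4 => ((Nat.prime_dvd_prime_iff_eq Nat.prime_three hp).1
    (Nat.prime_three.dvd_of_dvd_pow (Nat.dvd_of_mod_eq_zero h4))).symm
  obtain ⟨s, hs | hs⟩ := Nat.even_or_odd' a
  · by_cases hs1 : s = 1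
    · left; omega
    obtain ⟨h4, h5⟩ := key s (a + 1) (hs ▸ h1) h2 hs1 (by omega) (by omega)
    left
    have h6 := three s h4
    have h7 := three _ h5
    rcases h4.eq_two_or_odd with h8 | h8
    · omega
    · have h9 : ¬ p ^ n % 3 = 0 := fun h9 => by
        have := three_pow_mod_eight n
        rw [← hp3 h9] at this
        omega
      have : s % 3 = 0 ∨ s % 3 = 1 ∨ s % 3 = 2 := by omega
      rcases this with h | h | h <;> omega
  · by_cases hs1 : s + 1 = 1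
    · omega
    obtain ⟨h4, h5⟩ := key (s + 1) a (by rw [show 2 * (s + 1) = a + 1 by omega]; exact h2) h1 hs1
      (by omega) (by omega)
    have h6 := three _ h4
    have h7 := three _ h5
    by_cases h9 : p ^ n % 3 = 0
    · exact Or.inr ⟨hp3 h9, a, s + 1, h5, h4, by omega, by omega⟩
    · left
      have : s % 3 = 0 ∨ s % 3 = 1 ∨ s % 3 = 2 := by omega
      rcases this with h | h | h <;> omega

theorem OneC.sz (h : OneC G) {m : ℕ} (hm : 1 ≤ m)
    (ho : ∀ k, HasOrd G k ↔ k ∣ 4 ∨ k ∣ 2 ^ (2 * m + 1) - 1 ∨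
      k ∣ 2 ^ (2 * m + 1) + 2 ^ (m + 1) + 1 ∨ k ∣ 2 ^ (2 * m + 1) - 2 ^ (m + 1) + 1) : m = 1 := by
  have h4 : HasOrd G 4 := (ho _).2 (Or.inl dvd_rfl)
  have e1 : 2 ^ (2 * m + 1) = 2 * (2 ^ m * 2 ^ m) := by ring
  have e2 : 2 ^ (m + 1) = 2 * 2 ^ m := by ring
  have h2 : 2 ^ 1 ≤ 2 ^ m := Nat.pow_le_pow_right two_pos hm
  have h3 : 2 * 2 ^ m ≤ 2 ^ m * 2 ^ m := Nat.mul_le_mul_right _ h2
  have h5 := five_dvd_sz m
  rw [← sz_mul] at h5
  have p1 := h _ _ h4 ((ho _).2 (Or.inr (Or.inr (Or.inl dvd_rfl)))) (by norm_num) (by norm_num)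
    (by omega) (by omega)
  have p2 := h _ _ h4 ((ho _).2 (Or.inr (Or.inr (Or.inr dvd_rfl)))) (by norm_num) (by norm_num)
    (by omega) (by omega)
  rcases (Nat.Prime.dvd_mul Nat.prime_five).1 h5 with h6 | h6
  · have := (Nat.prime_dvd_prime_iff_eq Nat.prime_five p1).1 h6
    omega
  · have h7 := (Nat.prime_dvd_prime_iff_eq Nat.prime_five p2).1 h6
    by_contra h8
    have h9 : 2 ^ 2 ≤ 2 ^ m := Nat.pow_le_pow_right two_pos (by omega)
    have : 4 * 2 ^ m ≤ 2 ^ m * 2 ^ m := Nat.mul_le_mul_right _ h9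
    omega

end arith

theorem oneC_list {G : Type u} [Group G] [Finite G] [hs : IsSimpleGroup G]
    (hG : ¬ IsMulCommutative G) (h : OneC G) :
    (∃ (F : Type) (_ : Field F) (_ : Fintype F), (Fintype.card F = 5 ∨ Fintype.card F = 7 ∨
      Fintype.card F = 8 ∨ Fintype.card F = 9 ∨ Fintype.card F = 11 ∨ Fintype.card F = 13 ∨
      Fintype.card F = 16) ∧ Nonempty (G ≃* PSL(2, F))) ∨
    (∃ (F : Type) (_ : Field F) (_ : Fintype F), Fintype.card F = 4 ∧ Nonempty (G ≃* PSL(3, F))) ∨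
    (∃ (F : Type) (_ : Field F) (_ : Fintype F), Fintype.card F = 8 ∧
      Nonempty (G ≃* ↥(Cfsg.Lie.Sz F 4))) ∨
    (∃ (F : Type) (_ : Field F) (_ : Fintype F), ∃ n r s : ℕ, r.Prime ∧ s.Prime ∧
      3 ^ n - 1 = 2 * r ∧ 3 ^ n + 1 = 4 * s ∧ Fintype.card F = 3 ^ n ∧ Nonempty (G ≃* PSL(2, F))) ∨
    (∃ (F : Type) (_ : Field F) (_ : Fintype F), ∃ n r : ℕ, (2 ^ n - 1).Prime ∧ r.Prime ∧
      2 ^ n + 1 = 3 * r ∧ Fintype.card F = 2 ^ n ∧ Nonempty (G ≃* PSL(2, F))) := by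
  rcases oneC_cases hG h with h1 | ⟨F, _, _, hodd, h3, ⟨e⟩⟩ | h1 | h1
  · rcases Gold.Cor.l2Even_cases h1 with ⟨F, _, _, hF, e⟩ | ⟨F, _, _, n, hn, hF, ⟨e⟩⟩
    · exact Or.inl ⟨F, _, _, Or.inl hF, e⟩
    · rcases h.even hn (fun k => (hasOrd_congr e).trans (psl2_even_hasOrd (by omega) hF k)) with
        rfl | ⟨r, h1, h2, h3⟩
      · exact Or.inl ⟨F, inferInstance, inferInstance, by simp [hF], ⟨e⟩⟩
      · exact Or.inr (Or.inr (Or.inr (Or.inr ⟨F, _, _, n, r, h1, h2, h3, hF, ⟨e⟩⟩)))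
  · obtain ⟨p, hp⟩ := CharP.exists F
    obtain ⟨n, hpp, hn⟩ := FiniteField.card F p
    rcases h.odd hpp (hn ▸ hodd) (hn ▸ h3) (fun k => (hasOrd_congr e).trans
      (hn ▸ psl2_odd_hasOrd hpp hn hodd k)) with h1 | ⟨rfl, r, s, h1, h2, h4, h5⟩
    · exact Or.inl ⟨F, _, _, by omega, ⟨e⟩⟩
    · exact Or.inr (Or.inr (Or.inr (Or.inl ⟨F, _, _, n, r, s, h1, h2, h4, h5, hn, ⟨e⟩⟩)))
  · obtain ⟨m, hm, -, ho, F, _, _, hF, e⟩ := sz_data h1
    obtain rfl := h.sz hm ho
    exact Or.inr (Or.inr (Or.inl ⟨F, _, _, hF, e⟩))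
  · exact Or.inr (Or.inl h1)

theorem card_le_of_orbits {G : Type*} [Group G] [Finite G] {T : Finset ℕ}
    (hT : ∀ k ∈ T, HasOrd G k) : T.card ≤ Nat.card (MulAction.orbitRel.Quotient (MulAut G) G) := by
  classical
  haveI : Fintype (MulAction.orbitRel.Quotient (MulAut G) G) := Fintype.ofFinite _
  let f : MulAction.orbitRel.Quotient (MulAut G) G → ℕ := Quotient.lift orderOf (by
    rintro a b ⟨α, rfl⟩
    exact α.orderOf_eq b)
  have h1 : T ⊆ Finset.univ.image f := fun k hk => by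
    obtain ⟨g, rfl⟩ := hT k hk
    exact Finset.mem_image.2 ⟨Quotient.mk _ g, Finset.mem_univ _, rfl⟩
  rw [Nat.card_eq_fintype_card]
  exact (Finset.card_le_card h1).trans Finset.card_image_le

theorem five_orders {G : Type u} [Group G] [Finite G] [hs : IsSimpleGroup G]
    (hG : ¬ IsMulCommutative G) (h5 : ∀ T : Finset ℕ, (∀ k ∈ T, HasOrd G k) → T.card ≤ 5) :
    Nonempty (G ≃* ↥(alternatingGroup (Fin 5))) ∨ Nonempty (G ≃* ↥(alternatingGroup (Fin 6))) ∨
      (∃ (F : Type) (_ : Field F) (_ : Fintype F), (Fintype.card F = 7 ∨ Fintype.card F = 8) ∧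
        Nonempty (G ≃* PSL(2, F))) := by
  classical
  have h3 : 3 ≤ (Nat.card G).primeFactors.card := by
    by_contra hlt
    haveI := Char.isSolvable_of_card_primeFactors_le_two (G := G) (by omega)
    exact hG ⟨⟨IsSimpleGroup.comm_iff_isSolvable.2 this⟩⟩
  have h1 : HasOrd G 1 := ⟨1, orderOf_one⟩
  have hC : OneC G := fun a b ha hb ha1 hap hb1 hab => by
    by_contra hbp
    have h6 := h5 (insert a (insert b (insert 1 (Nat.card G).primeFactors))) fun k hk => by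
      simp only [Finset.mem_insert] at hk
      rcases hk with rfl | rfl | rfl | hk
      exacts [ha, hb, h1, hasOrd_of_prime_dvd (Nat.prime_of_mem_primeFactors hk)
        (Nat.dvd_of_mem_primeFactors hk)]
    rw [Finset.card_insert_of_notMem (by simp [hab, ha1, hap]),
      Finset.card_insert_of_notMem (by simp [hb1, hbp]),
      Finset.card_insert_of_notMem (by simp [Nat.not_prime_one])] at h6
    omega
  have six : ∀ a b c d e : ℕ, HasOrd G a → HasOrd G b → HasOrd G c → HasOrd G d → HasOrd G e →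
      [1, a, b, c, d, e].Nodup → False := fun a b c d e ha hb hc hd he hn => by
    have h6 := h5 [1, a, b, c, d, e].toFinset fun k hk => by
      simp only [List.mem_toFinset, List.mem_cons, List.not_mem_nil, or_false] at hk
      rcases hk with rfl | rfl | rfl | rfl | rfl | rfl <;> assumption
    rw [List.toFinset_card_of_nodup hn] at h6
    simp at h6
  rcases oneC_list hG hC with ⟨F, _, _, hF, ⟨e⟩⟩ | hL | ⟨F, _, _, hF, ⟨e⟩⟩ |
    ⟨F, _, _, n, r, s, hr, hs, h6, h7, hF, ⟨e⟩⟩ | ⟨F, _, _, n, r, hp, hr, h6, hF, ⟨e⟩⟩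
  · rcases hF with hF | hF | hF | hF | hF | hF | hF
    · obtain ⟨e'⟩ := gd_equiv_A5 (F := F) (by
        have := psl2_odd_card (F := F) (by rw [hF]; decide)
        rw [hF] at this; omega)
      exact Or.inl ⟨e.trans e'⟩
    · exact Or.inr (Or.inr ⟨F, _, _, Or.inl hF, ⟨e⟩⟩)
    · exact Or.inr (Or.inr ⟨F, _, _, Or.inr hF, ⟨e⟩⟩)
    · exact Or.inr (Or.inl (l29_alt ⟨F, _, _, hF, ⟨e⟩⟩))
    · have ho := fun k => (hasOrd_congr e).trans (psl2_odd_hasOrd (p := 11) (n := 1) (by norm_num)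
        hF (by rw [hF]; decide) k)
      simp only [hF] at ho
      exact (six 2 3 5 6 11 ((ho _).2 (by norm_num)) ((ho _).2 (by norm_num)) ((ho _).2 (by norm_num))
        ((ho _).2 (by norm_num)) ((ho _).2 (by norm_num)) (by decide)).elim
    · have ho := fun k => (hasOrd_congr e).trans (psl2_odd_hasOrd (p := 13) (n := 1) (by norm_num)
        hF (by rw [hF]; decide) k)
      simp only [hF] at ho
      exact (six 2 3 6 7 13 ((ho _).2 (by norm_num)) ((ho _).2 (by norm_num)) ((ho _).2 (by norm_num))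
        ((ho _).2 (by norm_num)) ((ho _).2 (by norm_num)) (by decide)).elim
    · have ho := fun k => (hasOrd_congr e).trans (psl2_even_hasOrd (n := 4) (by norm_num) hF k)
      exact (six 2 3 5 15 17 ((ho _).2 (by norm_num)) ((ho _).2 (by norm_num)) ((ho _).2 (by norm_num))
        ((ho _).2 (by norm_num)) ((ho _).2 (by norm_num)) (by decide)).elim
  · have ho := (l34_data hL).2
    exact (six 2 3 4 5 7 ((ho _).2 (by norm_num)) ((ho _).2 (by norm_num)) ((ho _).2 (by norm_num))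
      ((ho _).2 (by norm_num)) ((ho _).2 (by norm_num)) (by decide)).elim
  · have ho := fun k => (hasOrd_congr e).trans (sz_hasOrd (m := 1) le_rfl hF k)
    exact (six 2 4 5 7 13 ((ho _).2 (by norm_num)) ((ho _).2 (by norm_num)) ((ho _).2 (by norm_num))
      ((ho _).2 (by norm_num)) ((ho _).2 (by norm_num)) (by decide)).elim
  · have h0 : 0 < 3 ^ n := by positivity
    have ho := fun k => (hasOrd_congr e).trans (psl2_odd_hasOrd Nat.prime_three hF
      (by rw [hF]; exact Odd.pow (by decide)) k)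
    rw [hF, h6, h7, show 2 * r / 2 = r by omega, show 4 * s / 2 = 2 * s by omega] at ho
    have h8 := three_pow_mod_eight n
    have hr2 := hr.two_le
    have hs2 := hs.two_le
    have h9 : 3 ^ n % 3 = 0 := by
      obtain _ | n := n
      · simp at h6; omega
      · rw [pow_succ]; omega
    exact (six 2 3 r s (2 * s) ((ho _).2 (by simp)) ((ho _).2 (by simp)) ((ho _).2 (by simp))
      ((ho _).2 (by simp)) ((ho _).2 (by simp)) (by simp; omega)).elim
  · have h0 : 0 < 2 ^ n := by positivity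
    have hp2 := hp.two_le
    have hr2 := hr.two_le
    have hn : n ≠ 0 := by rintro rfl; simp at hp2
    by_cases h8 : r = 3
    · exact Or.inr (Or.inr ⟨F, _, _, Or.inr (by omega), ⟨e⟩⟩)
    have ho := fun k => (hasOrd_congr e).trans (psl2_even_hasOrd hn hF k)
    rw [h6] at ho
    have h9 := (odd_two_pow_add_one hn)
    obtain ⟨c, hc⟩ := h9
    exact (six 2 3 r (2 ^ n - 1) (3 * r) ((ho _).2 (by simp)) ((ho _).2 (by simp))
      ((ho _).2 (by simp)) ((ho _).2 (by simp)) ((ho _).2 (by simp)) (by simp; omega)).elim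

end CfsgLib.WCor4
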