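import Mathlib
import Cfsg.Agent.Lib.GW.DS
import Cfsg.Agent.Lib.ZStar.Main
import Cfsg.Agent.Lib.Frob.Quaternion
import Cfsg.Agent.Lib.Tech.SylowIn

/-! Groups in which `p`-subgroups of the same order are conjugate: the Sylow subgroups. -/

set_option autoImplicit false

namespace CfsgLib.WCor4

open Subgroup Cfsg CfsgLib.Tech

/-- `p`-subgroups of the same order are conjugate -/
def DG (G : Type*) [Group G] : Prop := ∀ p : ℕ, p.Prime → ∀ H K : Subgroup G, IsPGroup p H → IsPGroup p K →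
  Nat.card H = Nat.card K → ∃ g : G, K = cj g H

variable {G : Type*} [Group G] [Finite G] {p : ℕ} [hp : Fact p.Prime]

theorem zp_eq {c d : G} (hc : orderOf c = p) (hd : d ∈ zpowers c) (h1 : d ≠ 1) : zpowers d = zpowers c :=
  eq_of_le_of_card_ge (zpowers_le.2 hd) (by
    rw [Nat.card_zpowers, Nat.card_zpowers, hc, orderOf_eq_prime (p := p) (by
      obtain ⟨n, rfl⟩ := hd
      rw [← zpow_natCast, ← zpow_mul, mul_comm, zpow_mul, zpow_natCast, ← hc, pow_orderOf_eq_one, one_zpow]) h1])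

theorem card_zp_sup {c : G} {H : Subgroup G} (hc : c ^ p = 1) (h : c ∉ H) (hn : ∀ v ∈ H, c * v * c⁻¹ ∈ H) :
    Nat.card ↥(zpowers c ⊔ H) = p * Nat.card H := by
  have ho := orderOf_eq_prime hc fun e => h (e ▸ one_mem H)
  rw [Core.card_sup_of_le_normalizer_of_disjoint (zpowers_le.2 (mem_normalizer_of_forall hn)), Nat.card_zpowers, ho]
  refine eq_bot_iff.2 fun d hd => by_contra fun h1 => h (zpowers_le.2 hd.2 ?_)
  rw [zp_eq ho hd.1 h1]
  exact mem_zpowers c

theorem exists_comm_not_mem (hG : IsPGroup p G) {a : G} (ha : a ^ p = 1) (h : zpowers a ≠ ⊤) :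
    ∃ u ∉ zpowers a, u * a = a * u := by
  obtain ⟨u, hu⟩ : ∃ u, u ∉ zpowers a := by simpa [eq_top_iff'] using h
  have : Nontrivial G := ⟨u, 1, fun e => hu (e ▸ one_mem _)⟩
  have := hG.center_nontrivial
  obtain ⟨c, hc⟩ := exists_ne (1 : center G)
  by_cases h1 : (c : G) ∈ zpowers a
  · have h2 : a ≠ 1 := by
      rintro rfl
      exact hc (Subtype.ext (by simpa using h1))
    have := zp_eq (orderOf_eq_prime ha h2) h1 fun e => hc (Subtype.ext e)
    exact ⟨u, hu, mem_center_iff.1 (zpowers_le.2 c.2 (this ▸ mem_zpowers a)) u⟩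
  · exact ⟨c, h1, (mem_center_iff.1 c.2 a).symm⟩

/-- a `p`-group in which subgroups of the same order are isomorphic -/
theorem exp_or (hG : IsPGroup p G) (h : ∀ H K : Subgroup G, Nat.card H = Nat.card K → Nonempty (H ≃* K)) :
    (∀ x : G, x ^ p = 1) ∨ IsCyclic G ∨ p = 2 ∧ Nonempty (G ≃* QuaternionGroup 2) := by
  by_cases hE : ∀ E : Subgroup G, (∀ x ∈ E, x ^ p = 1) → Nat.card E ≠ p ^ 2
  · rcases Frob.exists_gens_of_forall_mem_zpowers hG (Frob.mem_zpowers_of_forall_card_sq_isCyclic hG hE) with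
      h1 | ⟨rfl, a, b, m, h1, h2, h3, h4, h5, h6⟩
    · exact .inr (.inl h1)
    refine .inr (.inr ⟨rfl, ?_⟩)
    have hc : Nat.card G = 2 ^ m * 2 := by rw [← (zpowers a).card_mul_index, Nat.card_zpowers, h1, h2]
    have hb : orderOf b = 2 ^ 2 := by
      obtain ⟨k, rfl⟩ := Nat.exists_eq_add_of_le' (show 1 ≤ m by omega)
      refine orderOf_eq_prime_pow (fun e => ?_) ?_
      · rw [pow_one, h5, Nat.add_sub_cancel, ← orderOf_dvd_iff_pow_eq_one, h2,
          Nat.pow_dvd_pow_iff_le_right (by norm_num)] at e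
        omega
      · rw [pow_succ, pow_mul, pow_one, h5, Nat.add_sub_cancel, ← pow_mul, ← pow_succ, ← h2, pow_orderOf_eq_one]
    obtain ⟨M, e1, e2⟩ := Sylow.exists_subgroup_card_pow_prime_le 2 (m := m) ⟨2, hc⟩ (zpowers b)
      (by rw [Nat.card_zpowers, hb]) h4
    obtain ⟨e⟩ := h (zpowers a) M (by rw [Nat.card_zpowers, h2, e1])
    have hi : M.index = 2 := Nat.eq_of_mul_eq_mul_left (by positivity) (e1 ▸ M.card_mul_index.trans hc)
    have : IsCyclic M := e.isCyclic.1 inferInstance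
    have h7 : b * a ^ 2 = a ^ 2 * b := congrArg Subtype.val (this.isMulCommutative.is_comm.comm
      (⟨b, e2 (mem_zpowers b)⟩ : M) ⟨_, sq_mem_of_index_two hi a⟩)
    have h8 : a ^ 2 ^ 2 = 1 := by
      have : (b * a * b⁻¹) ^ 2 = a ^ 2 := by rw [conj_pow, h7, mul_inv_cancel_right]
      rw [h6, inv_pow, inv_eq_iff_mul_eq_one, ← pow_add] at this
      exact this
    rw [← orderOf_dvd_iff_pow_eq_one, h2, Nat.pow_dvd_pow_iff_le_right (by norm_num)] at h8
    obtain rfl : m = 2 := by omega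
    exact Frob.nonempty_quaternion_of_gens h1 h2 h3 (by norm_num) h5 h6
  · push Not at hE
    obtain ⟨E, h1, h2⟩ := hE
    refine .inl fun x => by_contra fun hx => ?_
    obtain ⟨k, hk⟩ := IsPGroup.iff_orderOf.1 hG x
    have h3 : p ^ 2 ∣ orderOf x := hk ▸ pow_dvd_pow p (by
      by_contra h3
      exact hx (orderOf_dvd_iff_pow_eq_one.1 (hk ▸ (pow_dvd_pow p (by omega)).trans (pow_one p).dvd)))
    have h4 := orderOf_pow_orderOf_div (orderOf_pos x).ne' h3
    obtain ⟨e⟩ := h (zpowers (x ^ (orderOf x / p ^ 2))) E (by rw [Nat.card_zpowers, h4, h2])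
    have h5 : (⟨_, mem_zpowers _⟩ : zpowers (x ^ (orderOf x / p ^ 2))) ^ p = 1 :=
      e.injective (by rw [map_pow, map_one]; exact Subtype.ext (h1 _ (e _).2))
    have h6 := orderOf_dvd_of_pow_eq_one (congrArg Subtype.val h5 : (x ^ (orderOf x / p ^ 2)) ^ p = 1)
    rw [h4] at h6
    have := Nat.le_of_dvd hp.out.pos h6
    nlinarith [hp.out.one_lt]

theorem DG.exp_or (hD : DG G) {P : Subgroup G} (hP : IsPGroup p P) :
    (∀ x ∈ P, x ^ p = 1) ∨ IsCyclic P ∨ p = 2 ∧ Nonempty (P ≃* QuaternionGroup 2) := by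
  refine (WCor4.exp_or hP fun H K h => ?_).imp_left fun h x hx => congrArg Subtype.val (h ⟨x, hx⟩)
  obtain ⟨g, e⟩ := hD p hp.out (H.map P.subtype) (K.map P.subtype) ((hP.to_subgroup H).map _)
    ((hP.to_subgroup K).map _) (by rw [card_subtype, card_subtype, h])
  exact ⟨(((H.equivMapOfInjective _ P.subtype_injective).trans (cjEquiv g _)).trans
    (MulEquiv.subgroupCongr e.symm)).trans (K.equivMapOfInjective _ P.subtype_injective).symm⟩

theorem DG.exists_conj (hD : DG G) {x y : G} (hx : orderOf x = p) (hy : orderOf y = p) :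
    ∃ g : G, zpowers y = zpowers (g * x * g⁻¹) := by
  obtain ⟨g, e⟩ := hD p hp.out (zpowers x) (zpowers y) (isPGroup_zpowers_iff.2 ⟨1, by rw [hx, pow_one]⟩)
    (isPGroup_zpowers_iff.2 ⟨1, by rw [hy, pow_one]⟩) (by rw [Nat.card_zpowers, Nat.card_zpowers, hx, hy])
  exact ⟨g, by rw [e, cj_zpowers]⟩

/-- a normal subgroup containing an element of order `p` contains all of them -/
theorem DG.mem_normal (hD : DG G) {N : Subgroup G} [hN : N.Normal] {x y : G} (hx : orderOf x = p) (hxN : x ∈ N)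
    (hy : y ^ p = 1) : y ∈ N := by
  by_cases h : y = 1
  · exact h ▸ one_mem N
  obtain ⟨g, e⟩ := hD.exists_conj hx (orderOf_eq_prime hy h)
  exact zpowers_le.2 (hN.conj_mem x hxN g) (e ▸ mem_zpowers y)

omit [Finite G] in
theorem inv_pow_odd {t z : G} (h : t * z * t⁻¹ = z⁻¹) {n : ℕ} (hn : Odd n) : t ^ n * z * (t ^ n)⁻¹ = z⁻¹ := by
  obtain ⟨k, rfl⟩ := hn
  have h1 : Commute (t ^ 2) z := by
    rw [Commute, SemiconjBy, ← mul_inv_eq_iff_eq_mul]
    calc _ = t * (t * z * t⁻¹) * t⁻¹ := by rw [pow_two, mul_inv_rev]; simp only [mul_assoc]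
      _ = (t * z * t⁻¹)⁻¹ := by rw [h, ← conj_inv, h]
      _ = _ := by rw [h, inv_inv]
  rw [pow_succ', pow_mul, mul_assoc t, (h1.pow_left k).eq, ← h]
  group

/-- an element of odd prime order inverted by a square lies in `O(G)` -/
theorem DG.mem_core (hD : DG G) (h2 : p ≠ 2) {w z : G} (hz : orderOf z = p) (h : w ^ 2 * z * (w ^ 2)⁻¹ = z⁻¹) :
    z ∈ pPrimeCore 2 G := by
  have : Fact (Nat.Prime 2) := ⟨Nat.prime_two⟩
  have ho : Odd (orderOf z) := hz ▸ hp.out.odd_of_ne_two h2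
  obtain ⟨j, m, hm, e⟩ := Nat.exists_eq_two_pow_mul_odd (orderOf_pos w).ne'
  have h1 := inv_pow_odd h hm
  rw [← pow_mul, mul_comm 2 m, pow_mul] at h1
  obtain ⟨S, hS⟩ := (isPGroup_zpowers_of_pow (x := w ^ m) (p := 2) (k := j)
    (by rw [← pow_mul, mul_comm, ← e, pow_orderOf_eq_one])).exists_le_sylow
  have hs := hS (mem_zpowers _)
  generalize w ^ m = s at h1 hs
  have h3 : s ^ 2 ≠ 1 := fun e => by
    rw [e, one_mul, inv_one, mul_one, eq_inv_iff_mul_eq_one, ← pow_two, ← orderOf_dvd_iff_pow_eq_one, hz] at h1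
    exact h2 ((Nat.prime_dvd_prime_iff_eq hp.out Nat.prime_two).1 h1)
  rcases hD.exp_or S.isPGroup' with h4 | h4 | ⟨-, ⟨f⟩⟩
  · exact absurd (h4 s hs) h3
  · exact GW.mem_pPrimeCore_of_npc (GW.npc_of_cyclic S h4) ho
  have q1 : ∀ a : QuaternionGroup 2, (a ^ 2) ^ 2 = 1 := by decide
  have q2 : ∀ a b : QuaternionGroup 2, a ^ 2 = 1 → a ≠ 1 → b ^ 2 = 1 → b ≠ 1 → a = b := by decide
  have h5 : ∀ a : S, (a ^ 2) ^ 2 = 1 := fun a => f.injective (by simpa using q1 (f a))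
  have h6 : ∀ a ∈ S, ∀ b ∈ S, orderOf a = 2 → orderOf b = 2 → a = b := fun a ha b hb h7 h8 => by
    have k : ∀ c (hc : c ∈ S), orderOf c = 2 → f ⟨c, hc⟩ ^ 2 = 1 ∧ f ⟨c, hc⟩ ≠ 1 := fun c hc h => ⟨by
      rw [← map_pow, EmbeddingLike.map_eq_one_iff]
      exact Subtype.ext (orderOf_dvd_iff_pow_eq_one.1 h.dvd), fun e => by
        rw [show c = 1 from congrArg Subtype.val (EmbeddingLike.map_eq_one_iff.1 e)] at h
        simp at h⟩
    exact congrArg Subtype.val (f.injective (q2 _ _ (k a ha h7).1 (k a ha h7).2 (k b hb h8).1 (k b hb h8).2))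
  have h7 : orderOf (s ^ 2) = 2 := orderOf_eq_prime (congrArg Subtype.val (h5 ⟨s, hs⟩)) h3
  have h8 := ZStar.zstar (ZStar.isIsolatedInvolution_of_sylow S h7 (pow_mem hs 2) fun g hg =>
    h6 _ hg _ (pow_mem hs 2) ((SemiconjBy.orderOf_eq g (by simp [SemiconjBy])).symm.trans h7) h7) z
  rw [h1] at h8
  refine zpowers_le.2 h8 (zp_eq hz (mul_mem (inv_mem (mem_zpowers z)) (inv_mem (mem_zpowers z))) ?_ ▸ mem_zpowers z)
  rw [← pow_two, inv_pow, Ne, inv_eq_one, ← orderOf_dvd_iff_pow_eq_one, hz]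
  exact fun e => h2 ((Nat.prime_dvd_prime_iff_eq hp.out Nat.prime_two).1 e)

theorem exists_zz (hG : IsPGroup p G) (h : ¬ IsMulCommutative G) :
    ∃ x y z : G, z ≠ 1 ∧ z ∈ center G ∧ y * x * y⁻¹ = x * z := by
  have h1 : center G ≠ ⊤ := fun e => h ⟨⟨fun a b => mem_center_iff.1 (e ▸ mem_top b) a⟩⟩
  have : Nontrivial (G ⧸ center G) := QuotientGroup.nontrivial_iff.2 h1
  have := (hG.to_quotient (center G)).center_nontrivial
  obtain ⟨⟨c, hc⟩, h2⟩ := exists_ne (1 : center (G ⧸ center G))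
  obtain ⟨x, rfl⟩ := QuotientGroup.mk'_surjective _ c
  obtain ⟨y, hy⟩ : ∃ y, y * x ≠ x * y := by
    by_contra! h3
    exact h2 (Subtype.ext ((QuotientGroup.eq_one_iff x).2 (mem_center_iff.2 h3)))
  refine ⟨x, y, x⁻¹ * (y * x * y⁻¹), fun e => hy ?_, (QuotientGroup.eq_one_iff _).1 ?_, by group⟩
  · rwa [inv_mul_eq_one, eq_mul_inv_iff_mul_eq, eq_comm] at e
  · rw [← QuotientGroup.mk'_apply, map_mul, map_mul, map_mul, mem_center_iff.1 hc, map_inv, map_inv]
    group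

theorem DG.comm_of_exp (hD : DG G) (h2 : p ≠ 2) (P : Sylow p G) (hP : ∀ a ∈ P, a ^ p = 1) :
    IsMulCommutative (P : Subgroup G) := by
  by_contra hn
  obtain ⟨⟨x, hx⟩, ⟨y, hy⟩, ⟨z, hz⟩, h1, h3, h4⟩ := exists_zz P.isPGroup' hn
  replace h1 : z ≠ 1 := fun e => h1 (Subtype.ext e)
  replace h3 : ∀ a ∈ P, a * z = z * a := fun a ha => congrArg Subtype.val (mem_center_iff.1 h3 ⟨a, ha⟩)
  replace h4 : y * x * y⁻¹ = x * z := congrArg Subtype.val h4
  have hxy : y * x ≠ x * y := fun e => h1 (by rwa [e, mul_inv_cancel_right, left_eq_mul] at h4)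
  have cent : ∀ {a b g : G}, a * g = g * a → b * g = g * b → zpowers a ⊔ zpowers b ≤ centralizer {g} :=
    fun e1 e2 => sup_le (zpowers_le.2 (mem_centralizer_singleton_iff.2 e1))
      (zpowers_le.2 (mem_centralizer_singleton_iff.2 e2))
  have oz := orderOf_eq_prime (hP z hz) h1
  have ox := orderOf_eq_prime (hP x hx) fun e => hxy (by simp [e])
  have hV : Nat.card ↥(zpowers x ⊔ zpowers z) = p * p := by
    rw [card_zp_sup (hP x hx) (fun e => hxy ?_) fun v hv => ?_, Nat.card_zpowers, oz]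
    · exact (mem_centralizer_singleton_iff.1
        (zpowers_le.2 (mem_centralizer_singleton_iff.2 (h3 y hy).symm) e)).symm
    · rwa [← mem_centralizer_singleton_iff.1 (zpowers_le.2 (mem_centralizer_singleton_iff.2 (h3 x hx).symm) hv),
        mul_inv_cancel_right]
  have xV : x ∈ zpowers x ⊔ zpowers z := mem_sup_left (mem_zpowers x)
  have zV : z ∈ zpowers x ⊔ zpowers z := mem_sup_right (mem_zpowers z)
  have hE : Nat.card ↥(zpowers y ⊔ (zpowers x ⊔ zpowers z)) = p ^ 3 := by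
    rw [card_zp_sup (hP y hy) (fun e => hxy (mem_centralizer_singleton_iff.1 (cent rfl (h3 x hx).symm e)))
      (cj_le_iff.1 ?_), hV]
    · ring
    rw [cj_sup, cj_zpowers, cj_zpowers, h4, h3 y hy, mul_inv_cancel_right]
    exact sup_le (zpowers_le.2 (mul_mem xV zV)) le_sup_right
  have key : ∀ c : G, c ^ p = 1 → x * c = c * x → z * c = c * z → c ∈ zpowers x ⊔ zpowers z := by
    intro c c1 c2 c3
    by_contra c4
    have hA : Nat.card ↥(zpowers c ⊔ (zpowers x ⊔ zpowers z)) = p ^ 3 := by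
      rw [card_zp_sup c1 c4 fun v hv => by
        rwa [← mem_centralizer_singleton_iff.1 (cent c2 c3 hv), mul_inv_cancel_right], hV]
      ring
    obtain ⟨g, e⟩ := hD p hp.out _ _ (.of_card hA) (.of_card hE) (hA.trans hE.symm)
    have aux : ∀ {g : G}, c * g = g * c → x * g = g * x → z * g = g * z →
        zpowers c ⊔ (zpowers x ⊔ zpowers z) ≤ centralizer {g} := fun e1 e2 e3 =>
      sup_le (zpowers_le.2 (mem_centralizer_singleton_iff.2 e1)) (cent e2 e3)
    have a1 := mem_cj.1 (e ▸ mem_sup_left (mem_zpowers y))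
    have a2 := mem_cj.1 (e ▸ mem_sup_right xV)
    have := mem_centralizer_singleton_iff.1 (aux
      (mem_centralizer_singleton_iff.1 (aux rfl c2 c3 a2)).symm
      (mem_centralizer_singleton_iff.1 (aux c2.symm rfl (h3 x hx).symm a2)).symm
      (mem_centralizer_singleton_iff.1 (aux c3.symm (h3 x hx) rfl a2)).symm a1)
    simp only [← mul_assoc, mul_inv_cancel_right, mul_left_inj] at this
    exact hxy (by simpa [mul_assoc] using this)
  have hS := IsSylowIn.of_sylow_top P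
  obtain ⟨g, hg⟩ := hD.exists_conj oz ox
  have r1 : IsSylowIn p (cj g P) (centralizer {x}) := (hS.cj_of_mem (mem_top g)).of_le (cj_le_iff.2 fun a ha =>
    mem_centralizer_singleton_iff.2 (mem_centralizer_singleton_iff.1 (zpowers_le.2 (mem_centralizer_singleton_iff.2
      (by rw [conj_mul, conj_mul, h3 a ha])) (hg ▸ mem_zpowers x))).symm) le_top
  obtain ⟨k, hk, r2⟩ := r1.exists_conj_mem (mem_centralizer_singleton_iff.2 (h3 x hx).symm)
    (isPGroup_zpowers_iff.2 ⟨1, by rw [oz, pow_one]⟩)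
  have r3 := r1.cj_of_mem (inv_mem hk)
  have rz : z ∈ cj k⁻¹ (cj g P) := mem_cj.2 (by rwa [inv_inv])
  have rx : x ∈ cj k⁻¹ (cj g P) := mem_cj.2 (by
    rw [inv_inv, mem_centralizer_singleton_iff.1 hk, mul_inv_cancel_right]
    exact zpowers_le.2 (conj_mem_cj.2 hz) (hg ▸ mem_zpowers x))
  have rc : p ^ 3 ≤ Nat.card (cj k⁻¹ (cj g P)) := by
    rw [card_cj, card_cj, ← hE]
    exact hS.card_le (.of_card hE) le_top
  have re : ∀ a ∈ cj k⁻¹ (cj g P), a ^ p = 1 := fun a ha => by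
    have := hP _ (mem_cj.1 (mem_cj.1 ha))
    rw [show g⁻¹ * (k⁻¹⁻¹ * a * k⁻¹) * g = g⁻¹ * k * a * (g⁻¹ * k)⁻¹ by group, conj_pow] at this
    exact conj_eq_one_iff.1 this
  generalize cj k⁻¹ (cj g (P : Subgroup G)) = R at r3 rz rx rc re
  have hN : (zpowers (⟨x, rx⟩ : R)).Normal := ⟨fun a ha b => by
    rwa [show b * a = a * b from mem_centralizer_singleton_iff.1 (zpowers_le.2 (mem_centralizer_singleton_iff.2
      (Subtype.ext (mem_centralizer_singleton_iff.1 (r3.le b.2)).symm)) ha) |>.symm, mul_inv_cancel_right]⟩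
  have zpx : ∀ a : R, a ∈ zpowers (⟨x, rx⟩ : R) → (a : G) ∈ zpowers x := by
    rintro _ ⟨n, rfl⟩
    exact ⟨n, rfl⟩
  obtain ⟨u, u1, u2⟩ := exists_comm_not_mem (r3.pgroup.to_quotient (zpowers (⟨x, rx⟩ : R)))
    (a := QuotientGroup.mk' _ ⟨z, rz⟩) (by rw [← map_pow, ← map_one (QuotientGroup.mk' _)]; exact congrArg _ (Subtype.ext (re z rz)))
    fun e => by
      have : R ≤ zpowers x ⊔ zpowers z := fun a ha => by
        obtain ⟨n, hn⟩ := (e ▸ mem_top _ : QuotientGroup.mk' _ (⟨a, ha⟩ : R) ∈ zpowers _)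
        have := zpx _ (QuotientGroup.eq.1 ((map_zpow (QuotientGroup.mk' (zpowers (⟨x, rx⟩ : R))) _ n).trans hn))
        exact (mul_mem_cancel_left (inv_mem (zpow_mem zV n))).1 (mem_sup_left this)
      have := rc.trans ((card_le_of_le this).trans hV.le)
      nlinarith [hp.out.one_lt, Nat.mul_pos hp.out.pos hp.out.pos]
  obtain ⟨u, rfl⟩ := QuotientGroup.mk'_surjective _ u
  have ux : (u : G) * x = x * u := mem_centralizer_singleton_iff.1 (r3.le u.2)
  have u3 : z⁻¹ * (u * z * (u : G)⁻¹) ∈ zpowers x := zpx ((⟨z, rz⟩ : R)⁻¹ * (u * ⟨z, rz⟩ * u⁻¹))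
    ((QuotientGroup.eq_one_iff _).1 (by
      rw [← QuotientGroup.mk'_apply, map_mul, map_mul, map_mul, u2, map_inv, map_inv]; group))
  have u4 : z⁻¹ * (u * z * (u : G)⁻¹) ≠ 1 := fun e => u1 (by
    have h5 := key u (re _ u.2) ux.symm (by rwa [inv_mul_eq_one, eq_mul_inv_iff_mul_eq] at e)
    have h6 : zpowers x ⊔ zpowers z ≤ ((zpowers (QuotientGroup.mk' (zpowers (⟨x, rx⟩ : R)) ⟨z, rz⟩)).comap
        (QuotientGroup.mk' _)).map R.subtype := sup_le (zpowers_le.2 ⟨⟨x, rx⟩, by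
      rw [SetLike.mem_coe, mem_comap, show QuotientGroup.mk' _ _ = 1 from (QuotientGroup.eq_one_iff _).2 (mem_zpowers _)]
      exact one_mem _, rfl⟩) (zpowers_le.2 ⟨⟨z, rz⟩, mem_zpowers _, rfl⟩)
    obtain ⟨v, hv, e⟩ := h6 h5
    rwa [← (Subtype.ext e : v = u)])
  obtain ⟨n, hn⟩ := (mem_powers_iff_mem_zpowers.2 (zp_eq ox u3 u4 ▸ inv_mem (mem_zpowers x)))
  have ud := mem_centralizer_singleton_iff.1 (zpowers_le.2 (mem_centralizer_singleton_iff.2 ux.symm) u3)
  obtain ⟨d, hd⟩ : ∃ d, d = z⁻¹ * (u * z * (u : G)⁻¹) := ⟨_, rfl⟩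
  rw [← hd] at hn ud
  have u5 : ∀ i : ℕ, (u : G) ^ i * z * ((u : G) ^ i)⁻¹ = z * d ^ i := fun i => by
    induction i with
    | zero => simp
    | succ i ih =>
      calc _ = u * ((u : G) ^ i * z * ((u : G) ^ i)⁻¹) * (u : G)⁻¹ := by rw [pow_succ']; group
        _ = z * (z⁻¹ * (u * z * (u : G)⁻¹)) * (u * d * (u : G)⁻¹) ^ i := by rw [ih, conj_pow]; group
        _ = _ := by rw [← hd, ← ud, mul_inv_cancel_right, pow_succ', mul_assoc]
  have u6 := u5 n
  have u7 : (u : G) ^ n * x * ((u : G) ^ n)⁻¹ = x := by rw [(Commute.pow_left ux n).eq, mul_inv_cancel_right]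
  have u8 : ((u : G) ^ n) ^ p = 1 := re _ (pow_mem u.2 n)
  rw [show d ^ n = x⁻¹ from hn] at u6
  generalize (u : G) ^ n = v at u6 u7 u8
  have yz : y * z * y⁻¹ = z := by rw [h3 y hy, mul_inv_cancel_right]
  have w1 : y * v * y * x * (y * v * y)⁻¹ = z :=
    calc _ = y * (v * (y * x * y⁻¹) * v⁻¹) * y⁻¹ := by group
      _ = y * ((v * x * v⁻¹) * (v * z * v⁻¹)) * y⁻¹ := by rw [h4]; group
      _ = _ := by rw [u6, u7, ← mul_assoc x, h3 x hx, mul_assoc z, mul_inv_cancel, mul_one, yz]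
  have w2 : y * v * y * z * (y * v * y)⁻¹ = x⁻¹ :=
    calc _ = y * (v * (y * z * y⁻¹) * v⁻¹) * y⁻¹ := by group
      _ = (y * z * y⁻¹) * (y * x * y⁻¹)⁻¹ := by conv_lhs => rw [yz, u6]
                                                group
      _ = _ := by rw [yz, h4]; group
  have w3 : (y * v * y) ^ 2 * z * ((y * v * y) ^ 2)⁻¹ = z⁻¹ :=
    calc _ = y * v * y * (y * v * y * z * (y * v * y)⁻¹) * (y * v * y)⁻¹ := by rw [pow_two]; group
      _ = (y * v * y * x * (y * v * y)⁻¹)⁻¹ := by rw [w2]; group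
      _ = _ := by rw [w1]
  have hO := hD.mem_core h2 oz w3
  have hy' := hD.mem_normal oz hO (hP y hy)
  have := inv_pow_odd w3 (Core.odd_card_oddCore G)
  rw [← pow_mul, mul_comm 2, pow_mul, orderOf_dvd_iff_pow_eq_one.1 (orderOf_dvd_natCard _
    (mul_mem (mul_mem hy' (hD.mem_normal oz hO u8)) hy')), one_pow, one_mul, inv_one, mul_one,
    eq_inv_iff_mul_eq_one, ← pow_two, ← orderOf_dvd_iff_pow_eq_one, oz] at this
  exact h2 ((Nat.prime_dvd_prime_iff_eq hp.out Nat.prime_two).1 this)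

theorem DG.sylow (hD : DG G) (P : Sylow p G) :
    IsCyclic P ∨ IsElementaryAbelian p (P : Subgroup G) ∨ p = 2 ∧ Nonempty ((P : Subgroup G) ≃* QuaternionGroup 2) := by
  rcases hD.exp_or P.isPGroup' with h | h | h
  · refine .inr (.inl ⟨?_, h⟩)
    by_cases h2 : p = 2
    · subst h2
      have h1 : ∀ a : P, a * a = 1 := fun a => Subtype.ext ((pow_two _).symm.trans (h a a.2))
      exact ⟨⟨fun a b => by
        rw [← inv_eq_of_mul_eq_one_right (h1 (a * b)), mul_inv_rev, inv_eq_of_mul_eq_one_right (h1 a),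
          inv_eq_of_mul_eq_one_right (h1 b)]⟩⟩
    · exact hD.comm_of_exp h2 P h
  · exact .inl h
  · exact .inr (.inr h)

end CfsgLib.WCor4
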