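import Mathlib
import Cfsg.Agent.Lib.WCor.RD
import Cfsg.Agent.Lib.EL.JT

/-! Simple groups of order 175560; real and non-real 3-elements in groups of Ree type. -/

set_option autoImplicit false

namespace CfsgLib.WCor4

open Subgroup Cfsg CfsgLib.Abel2 CfsgLib.WCor Matrix MatrixGroups

universe u

variable {G : Type u} [Group G] [Finite G]

theorem jr_of_card [hs : IsSimpleGroup G] (hG : Nat.card G = 175560) : IsJR G ∧ Spor.IsoJ1 G := by
  have : Fact (Nat.Prime 2) := ⟨Nat.prime_two⟩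
  have hn : ¬ IsMulCommutative G := fun h => by
    let _ : CommGroup G := { mul_comm := h.is_comm.comm }
    have := IsSimpleGroup.prime_card (α := G)
    rw [hG] at this
    norm_num at this
  have key : ∀ (F : Type) [Field F] [Fintype F], Odd (Fintype.card F) → (G ≃* PSL(2, F)) → False := by
    intro F _ _ h1 e
    have h := Gold.Cor.card_psl_odd h1
    rw [← Nat.card_congr e.toEquiv, hG] at h
    obtain ⟨q, hq⟩ : ∃ q, Fintype.card F = q + 1 := ⟨_, (Nat.succ_pred_eq_of_pos Fintype.card_pos).symm⟩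
    rw [hq, Nat.add_sub_cancel] at h
    rcases le_or_gt q 69 with h2 | h2 <;> nlinarith [Nat.mul_le_mul h2 h2]
  obtain ⟨T⟩ : Nonempty (Sylow 2 G) := inferInstance
  have hT : Nat.card (T : Subgroup G) = 2 ^ 3 := card_sylow_of_eq T (m := 21945) (by rw [hG]; norm_num) (by norm_num)
  by_cases hc : IsMulCommutative (T : Subgroup G)
  · have hab : Ab2 G := abelian_sylow_of_one T hc
    rcases classify inputs hs hn hab with h | ⟨F, _, _, h1, -, ⟨e⟩⟩ | h
    · obtain ⟨a, ha, F, _, _, hF, ⟨e⟩⟩ := pslEven_pow h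
      have h1 := Ward.card_psl_even (F := F) (hF ▸ Nat.even_pow.2 ⟨even_two, by omega⟩)
      rw [← Nat.card_congr e.toEquiv, hG, hF, ← card_sylow_pslEven (by omega) hF e T, hT] at h1
      norm_num at h1
    · exact (key F h1 e).elim
    · refine ⟨h, ((EL.jw G h).resolve_left ?_).1⟩
      rintro ⟨-, -, m, -, -, -, -, -, -, -, -, h2⟩
      have : 3 ^ 3 ∣ Nat.card G := h2 ▸ ((pow_dvd_pow_of_dvd (dvd_pow_self 3 (by omega)) 3).mul_right _).mul_right _
      rw [hG] at this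
      norm_num at this
  · obtain ⟨r, s, hD⟩ := dih_of_eight hn T hT hc
    rcases gws G hn ⟨T, 4, r, s, by norm_num, hD⟩ with ⟨F, _, _, h1, -, ⟨e⟩⟩ | ⟨⟨e⟩⟩
    · exact (key F h1 e).elim
    · have := two_mul_nat_card_alternatingGroup (α := Fin 7)
      rw [← Nat.card_congr e.toEquiv, hG, Nat.card_perm, Nat.card_fin] at this
      norm_num [Nat.factorial] at this

/-- a group of Ree type has a real and a non-real element of order 3 -/
theorem ree_real [IsSimpleGroup G] (hab : Ab2 G) (h : ReeO G) : ∃ a y : G, orderOf a = 3 ∧ orderOf y = 3 ∧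
    (∃ g, g * a * g⁻¹ = a⁻¹) ∧ ∀ g, g * y * g⁻¹ ≠ y⁻¹ := by
  have : Fact (Nat.Prime 3) := ⟨Nat.prime_three⟩
  obtain ⟨t, K, m, F, _, _, hm, ht, hK, hF, ⟨e⟩, hG⟩ := h
  obtain ⟨f⟩ := equiv_of_idp ht hK
  have h3 : 3 ≤ Fintype.card F :=
    hF ▸ (Nat.pow_le_pow_right (by norm_num) (by omega) : 3 ^ 1 ≤ 3 ^ (2 * m + 1))
  obtain ⟨-, -, ι, h⟩ := Ward.exists_frame_psl hab h3 ht (f.trans (MulEquiv.prodCongr (MulEquiv.refl _) e))
  have hr := Ward.ree_psl h hm hF hG
  obtain ⟨T, hT⟩ := hr.bor'.exists_top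
  obtain ⟨a, -, h1, h2⟩ := hr.exists_real hT
  obtain ⟨y, hy⟩ := exists_prime_orderOf_dvd_card' (G := PSL(2, F)) 3 (by
    rw [hr.cardL']; exact (dvd_pow_self 3 (by omega)).mul_right _)
  have hy' : orderOf (ι y) = 3 := by rw [orderOf_injective ι h.inj, hy]
  exact ⟨a, ι y, h1, hy', ⟨t, h2⟩, fun g => h.nr hr.nrL ht ((h.mem _).2 ⟨y, Or.inl rfl⟩) hy'⟩

end CfsgLib.WCor4
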