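import Mathlib
import Cfsg.Agent.Lib.WCor4.One
import Cfsg.Agent.Lib.WCor4.Two
import Cfsg.Agent.Lib.WCor4.Syl
import Cfsg.Agent.Lib.WCor4.Cnt
import Cfsg.Agent.S0204

/-! Simple normal subgroups of groups in which abelian `p`-subgroups of the same order are conjugate. -/

set_option autoImplicit false

namespace CfsgLib.WCor4

open Subgroup Cfsg CfsgLib.Tech CfsgLib.Abel2 CfsgLib.WCor Matrix MatrixGroups SemidirectProduct

universe u

/-- abelian `p`-subgroups of the same order are conjugate -/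
def AB (G : Type*) [Group G] : Prop := ∀ p k : ℕ, p.Prime → ∀ A B : Subgroup G, IsMulCommutative A →
  IsMulCommutative B → Nat.card A = p ^ k → Nat.card B = p ^ k → ∃ g : G, B = cj g A

theorem DG.ab {G : Type*} [Group G] (h : DG G) : AB G := fun p _ hp A B _ _ h1 h2 =>
  h p hp A B (.of_card h1) (.of_card h2) (h1.trans h2.symm)

variable {G : Type u} [Group G] [Finite G]

theorem AB.cases (h : AB G) (M : Subgroup G) [hM : M.Normal] (hs : IsSimpleGroup M) (hn : ¬ IsMulCommutative M) :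
    (∃ f : ℕ, 2 ≤ f ∧ ∃ (F : Type) (_ : Field F) (_ : Fintype F), Fintype.card F = 2 ^ f ∧ Nonempty (M ≃* PSL(2, F))) ∨
    (∃ (F : Type) (_ : Field F) (_ : Fintype F), 5 ≤ Fintype.card F ∧
      (Fintype.card F % 8 = 3 ∨ Fintype.card F % 8 = 5) ∧ Nonempty (M ≃* PSL(2, F))) ∨ Spor.IsoJ1 M := by
  have hab : Ab2 M := ab2_of_not_four fun ⟨x, hx⟩ => by
    obtain ⟨E, hE⟩ := Agent.S0204.result (G := M) fun h => hn h.isMulCommutative
    have := hE.isMulCommutative
    obtain ⟨g, e⟩ := h 2 2 Nat.prime_two (zpowers (x : G)) (E.map M.subtype) inferInstance inferInstance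
      (by rw [Nat.card_zpowers, orderOf_coe, hx]; rfl) (by rw [card_subtype, hE.card_four]; rfl)
    rw [cj_zpowers] at e
    exact hE.not_isCyclic ((E.equivMapOfInjective _ M.subtype_injective).isCyclic.2 (e ▸ inferInstance))
  rcases classify inputs hs hn hab with h1 | h1 | h1
  · exact .inl (pslEven_pow h1)
  · exact .inr (.inl (Gold.Cor.pslOdd_mod hab h1))
  refine .inr (.inr ((EL.jw M h1).resolve_left fun h2 => ?_).1)
  obtain ⟨a, y, ha, hy, ⟨k, hk⟩, h3⟩ := ree_real hab h2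
  obtain ⟨g, e⟩ := h 3 1 Nat.prime_three (zpowers (a : G)) (zpowers (y : G)) inferInstance inferInstance
    (by rw [Nat.card_zpowers, orderOf_coe, ha]; rfl) (by rw [Nat.card_zpowers, orderOf_coe, hy]; rfl)
  rw [cj_zpowers] at e
  obtain ⟨n, hn⟩ := mem_zpowers_iff.1 (e ▸ mem_zpowers (y : G))
  refine h3 ⟨_, hM.conj_mem _ k.2 g⟩ (Subtype.ext ?_)
  change g * k * g⁻¹ * y * (g * k * g⁻¹)⁻¹ = (y : G)⁻¹
  have hk' : (k : G) * a * (k : G)⁻¹ = (a : G)⁻¹ := congrArg Subtype.val hk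
  rw [← hn, ← conj_zpow, ← _root_.inv_zpow]
  congr 1
  calc _ = g * (k * a * (k : G)⁻¹) * g⁻¹ := by group
    _ = _ := by rw [hk']; group

omit [Finite G] in
theorem AB.tr (h : AB G) {F : Type*} [Field F] {L : Subgroup G} {e : L ≃* PSL(2, F)} {ρ : G →* GW.KP.PGam F}
    (hρ : ∀ l : L, ρ l = inl (Dickson.pslPGL F (e l))) {p : ℕ} (hp : p.Prime) : Tr p (rightHom.comp ρ).range :=
  tr_of_conj hρ hp.one_lt (h p 2 hp)

end CfsgLib.WCor4
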