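import Mathlib
import Cfsg.Prelude.Def_Perm
import Cfsg.Agent.Lib.WCor4.Sim
import Cfsg.Agent.Lib.Perm.MultiTransHuppert
import Cfsg.Agent.Lib.FT.OddOrder

/-! The affine case: a normal self-centralising elementary abelian Sylow 2-subgroup. -/

set_option autoImplicit false

namespace CfsgLib.WCor4

open Subgroup Cfsg CfsgLib.Tech
open scoped IsMulCommutative

section
variable {F : Type*} [Field F]

theorem semi_uniq {u : F → F} {a a' : Fˣ} {b b' : F} {σ σ' : F ≃+* F} (h : ∀ x, u x = a * σ x + b)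
    (h' : ∀ x, u x = a' * σ' x + b') : σ = σ' := by
  have h0 : b = b' := by simpa using (h 0).symm.trans (h' 0)
  have h1 : (a : F) = a' := by simpa [h0] using (h 1).symm.trans (h' 1)
  ext x
  simpa [h0, h1] using (h x).symm.trans (h' x)

theorem exists_sg (F : Type*) [Field F] : ∃ s : semiaffineGroup F →* (F ≃+* F),
    ∀ (u : semiaffineGroup F) (a : Fˣ) (b : F) (σ : F ≃+* F), (∀ x, u.1 x = a * σ x + b) → s u = σ := by
  have h : ∀ u : semiaffineGroup F, ∃ σ : F ≃+* F, ∃ a : Fˣ, ∃ b, ∀ x, u.1 x = a * σ x + b :=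
    fun ⟨_, a, b, σ, h⟩ => ⟨σ, a, b, h⟩
  choose s a b h using h
  refine ⟨MonoidHom.mk' s fun u v => semi_uniq (h (u * v)) (a' := a u * Units.map (s u : F →* F) (a v))
    (b' := a u * s u (b v) + b u) fun x => ?_, fun u a' b' σ h' => semi_uniq (h u) h'⟩
  rw [coe_mul, Equiv.Perm.mul_apply, h, h]
  simp [mul_add, mul_assoc, add_assoc]

theorem card_affine [Finite F] : Nat.card (affineGroup F) = Nat.card F * (Nat.card F - 1) := by
  rw [← Nat.card_units, ← Nat.card_prod]
  refine (Nat.card_congr (Equiv.ofBijective (fun x : F × Fˣ => (⟨(Units.mulLeft x.2).trans (Equiv.addRight x.1),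
    x.2, x.1, fun _ => rfl⟩ : affineGroup F)) ⟨fun x y e => ?_, fun ⟨u, a, b, h⟩ =>
      ⟨(b, a), Subtype.ext (Equiv.ext fun x => (h x).symm)⟩⟩)).symm
  have h : ∀ z : F, x.2 * z + x.1 = y.2 * z + y.1 := fun z => DFunLike.congr_fun (congrArg Subtype.val e) z
  have h0 : x.1 = y.1 := by simpa using h 0
  exact Prod.ext h0 (Units.ext (by simpa [h0] using h 1))

theorem semi_cases [Finite F] {G : Type*} [Group G] (φ : G →* semiaffineGroup F) (hφ : Function.Injective φ)
    {s : semiaffineGroup F →* (F ≃+* F)}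
    (hs : ∀ (u : semiaffineGroup F) (a : Fˣ) (b : F) (σ : F ≃+* F), (∀ x, u.1 x = a * σ x + b) → s u = σ)
    (hd : Nat.card F * (Nat.card F - 1) ∣ Nat.card G)
    (hc : (Nat.card F * (Nat.card F - 1)).Coprime (Nat.card (F ≃+* F))) :
    ((s.comp φ).range = ⊥ → Nonempty (G ≃* affineGroup F)) ∧
      ((s.comp φ).range = ⊤ → Nonempty (G ≃* semiaffineGroup F)) := by
  have hle : affineGroup F ≤ semiaffineGroup F := fun u ⟨a, b, h⟩ => ⟨a, b, .refl F, h⟩
  have hk : s.ker = (affineGroup F).subgroupOf _ := by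
    ext ⟨u, a, b, σ, h⟩
    rw [MonoidHom.mem_ker, hs _ a b σ h, mem_subgroupOf]
    exact ⟨fun e => ⟨a, b, fun x => by rw [h, e]; rfl⟩, fun ⟨a', b', h'⟩ => semi_uniq h h'⟩
  have h1 : Nat.card s.ker = Nat.card F * (Nat.card F - 1) := by
    rw [hk, Nat.card_congr (subgroupOfEquivOfLe hle).toEquiv, card_affine]
  have h2 : s.ker ≤ φ.range := by
    rw [← (s.comp φ).ker.card_mul_index, index_ker] at hd
    have h3 := (hc.coprime_dvd_right (card_subgroup_dvd_card _)).dvd_of_dvd_mul_right hd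
    rw [← h1, ← card_map_of_injective hφ] at h3
    rw [← eq_of_le_of_card_ge (show (s.comp φ).ker.map φ ≤ s.ker from map_le_iff_le_comap.2 fun x hx => hx)
      (Nat.le_of_dvd Nat.card_pos h3)]
    exact map_le_range _ _
  have h3 := comap_map_eq_self h2
  rw [← MonoidHom.range_comp] at h3
  refine ⟨fun e => ?_, fun e => ?_⟩ <;> rw [e] at h3
  · rw [MonoidHom.comap_bot, hk] at h3
    exact ⟨((MonoidHom.ofInjective hφ).trans (MulEquiv.subgroupCongr h3.symm)).trans (subgroupOfEquivOfLe hle)⟩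
  · exact ⟨MulEquiv.ofBijective φ ⟨hφ, MonoidHom.range_eq_top.1 (h3.symm.trans (comap_top _))⟩⟩

end

theorem AB.affine {G : Type*} [Group G] [Finite G] (h : AB G) (N : Subgroup G) [hn : N.Normal] [IsMulCommutative N]
    {f : ℕ} (hN : Nat.card N = 2 ^ f) (hf : 2 ≤ f) (h2 : ∀ x ∈ N, x ^ 2 = 1) (ho : Odd N.index)
    (hC : centralizer (N : Set G) ≤ N) :
    Nat.card G = 12 ∨ 3 ≤ f ∧ (Nonempty (G ≃* affineGroup (GaloisField 2 3)) ∨
      Nonempty (G ≃* semiaffineGroup (GaloisField 2 3)) ∨ Nonempty (G ≃* semiaffineGroup (GaloisField 2 5))) := by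
  have : Fact (Nat.Prime 2) := ⟨Nat.prime_two⟩
  have h4 : 2 ^ 2 ≤ 2 ^ f := Nat.pow_le_pow_right (by norm_num) hf
  obtain ⟨H, hH⟩ := exists_right_complement'_of_coprime (N := N)
    (hN ▸ (Nat.coprime_two_left.2 ho).pow_left f)
  have hcH : Nat.card H = N.index := hH.symm.index_eq_card.symm
  have dec : ∀ g : G, ∃ (m : N) (k : H), g = m * k := fun g => by
    obtain ⟨⟨m, k⟩, e⟩ := hH.2 g
    exact ⟨m, k, e.symm⟩
  have := FT.odd_order_solvable (hcH ▸ ho)
  have : Nontrivial N := Finite.one_lt_card_iff_nontrivial.1 (by omega)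
  let c : H → N → N := fun k n => ⟨_, hn.conj_mem _ n.2 k⟩
  have hc : ∀ (m : N) (k : H) (n : N), (m : G) * k * n * ((m : G) * k)⁻¹ = c k n := fun m k n =>
    calc _ = ((m * c k n * m⁻¹ : N) : G) := by simp only [c, coe_mul, coe_inv]; group
      _ = _ := by rw [mul_inv_cancel_comm]
  have triv : ∀ k : H, (∀ n, c k n = n) → k = 1 := fun k hk => Subtype.ext (disjoint_def.1 hH.disjoint
    (hC fun n hn => (mul_inv_eq_iff_eq_mul.1 (congrArg Subtype.val (hk ⟨n, hn⟩))).symm) k.2)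
  let _ : DistribMulAction H (Additive N) :=
    { smul := fun g v => .ofMul (c g v.toMul)
      one_smul := fun v => congrArg Additive.ofMul (Subtype.ext (by simp [c]; rfl))
      mul_smul := fun g k v => congrArg Additive.ofMul (Subtype.ext (by
        change _ = (g : G) * (k * _ * (k : G)⁻¹) * (g : G)⁻¹; simp [c, mul_assoc]))
      smul_zero := fun g => congrArg Additive.ofMul (Subtype.ext (by simp [c]))
      smul_add := fun g v w => congrArg Additive.ofMul (Subtype.ext (by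
        change _ = (g : G) * _ * (g : G)⁻¹ * (g * _ * (g : G)⁻¹); simp [c, mul_assoc])) }
  have : FaithfulSMul H (Additive N) := ⟨fun {g k} e => (inv_mul_eq_one.1 (triv _ fun n =>
    ((mul_smul k⁻¹ g (Additive.ofMul n)).trans (by rw [e, inv_smul_smul]) :))).symm⟩
  have htr : ∀ v w : Additive N, v ≠ 0 → w ≠ 0 → ∃ g : H, g • v = w := fun v w hv hw => by
    have o : ∀ v : Additive N, v ≠ 0 → orderOf (v.toMul : G) = 2 := fun v hv =>
      orderOf_eq_prime (h2 _ v.toMul.2) fun e => hv (Subtype.ext e)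
    obtain ⟨g, e⟩ := h 2 1 Nat.prime_two (zpowers (v.toMul : G)) (zpowers (w.toMul : G)) inferInstance inferInstance
      (by rw [Nat.card_zpowers, o v hv]; rfl) (by rw [Nat.card_zpowers, o w hw]; rfl)
    obtain ⟨m, k, rfl⟩ := dec g
    rw [cj_zpowers, hc] at e
    refine ⟨k, Subtype.ext ((TwoGrp.mem_zpowers_iff_of_mul_self ((pow_two _).symm.trans (h2 _ w.toMul.2))).1
      (e ▸ mem_zpowers _) |>.resolve_left fun e1 => hv ?_)⟩
    exact (smul_eq_zero_iff_eq k).1 (Subtype.ext e1)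
  obtain ⟨F, _, _, e, he⟩ := (Perm.huppert htr Nat.prime_two (show Nat.card (Additive N) = 2 ^ f from hN)).resolve_right
    fun ⟨_, _, _, _, h1, h3, _⟩ => by simpa using h1.trans h3
  have hK := GaloisField.card 2 f (by omega)
  have := Fintype.ofFinite (GaloisField 2 f)
  let ψ : F ≃+* GaloisField 2 f := FiniteField.ringEquivOfCardEq (by
    rw [← Nat.card_eq_fintype_card, ← Nat.card_eq_fintype_card, hK, ← Nat.card_congr e.toEquiv]; exact hN)
  let E : N ≃ GaloisField 2 f := Additive.ofMul.trans (e.trans ψ.toAddEquiv).toEquiv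
  have hE : ∀ m n, E (m * n) = E m + E n := fun m n => map_add (e.trans ψ.toAddEquiv) (.ofMul m) (.ofMul n)
  have hE1 : E 1 = 0 := map_zero (e.trans ψ.toAddEquiv)
  have hEc : ∀ k : H, ∃ (a : (GaloisField 2 f)ˣ) (σ : GaloisField 2 f ≃+* GaloisField 2 f),
      ∀ n, E (c k n) = a * σ (E n) := fun k => by
    obtain ⟨a, σ, h1⟩ := he k
    refine ⟨.mk0 (ψ a) fun h3 => ?_, ψ.symm.trans (σ.trans ψ), fun n => (congrArg ψ (h1 (.ofMul n))).trans (by simp [E])⟩
    obtain ⟨v, hv⟩ := exists_ne (0 : Additive N)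
    have := h1 v
    rw [(map_eq_zero ψ).1 h3, zero_mul, map_eq_zero_iff _ e.injective, smul_eq_zero_iff_eq] at this
    exact hv this
  let ε : N ≃ G ⧸ H := Equiv.ofBijective (fun n => ((n : G) : G ⧸ H)) ⟨fun m n e =>
    inv_mul_eq_one.1 (Subtype.ext (disjoint_def.1 hH.disjoint (m⁻¹ * n).2 (QuotientGroup.eq.1 e))), fun x => by
      obtain ⟨g, rfl⟩ := QuotientGroup.mk_surjective x
      obtain ⟨m, k, rfl⟩ := dec g
      exact ⟨m, (QuotientGroup.mk_mul_of_mem _ k.2).symm⟩⟩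
  let φ₀ := (ε.symm.trans E).permCongrHom.toMonoidHom.comp (MulAction.toPermHom G (G ⧸ H))
  have h0 : ∀ (m : N) (k : H) (n : N), φ₀ (m * k) (E n) = E (c k n) + E m := fun m k n => by
    rw [add_comm, ← hE]
    change E (ε.symm (((m : G) * k) • ε (E.symm (E n)))) = _
    rw [E.symm_apply_apply, EmbeddingLike.apply_eq_iff_eq, Equiv.symm_apply_eq]
    exact QuotientGroup.eq.2 (by simp [c, mul_assoc])
  let φ := φ₀.codRestrict (semiaffineGroup _) fun g => by
    obtain ⟨m, k, rfl⟩ := dec g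
    obtain ⟨a, σ, h1⟩ := hEc k
    exact ⟨a, E m, σ, E.surjective.forall.2 fun n => by rw [h0, h1]⟩
  have hφ : Function.Injective φ := (injective_iff_map_eq_one φ).2 fun g hg => by
    obtain ⟨m, k, rfl⟩ := dec g
    have h1 : ∀ n, E (c k n) + E m = E n := fun n => by rw [← h0, show φ₀ (m * k) = 1 from congrArg Subtype.val hg]; rfl
    have h3 : m = 1 := E.injective (by simpa [c, show (⟨1, _⟩ : N) = 1 from rfl, hE1] using h1 1)
    rw [h3, triv k fun n => E.injective (by simpa [h3, hE1] using h1 n)]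
    simp
  obtain ⟨s, hs⟩ := exists_sg (GaloisField 2 f)
  have hd : 2 ^ f * (2 ^ f - 1) ∣ Nat.card G := by
    rw [← hH.card_mul_card, ← hN]
    exact Nat.mul_dvd_mul_left _ (Perm.card_sub_one_dvd (V := Additive N) htr)
  have hT : Tr 2 (s.comp φ).range := fun W W' hW hW' => by
    let ι : Multiplicative (GaloisField 2 f) →* G := MonoidHom.mk' (fun x => E.symm x.toAdd) fun x y => by
      rw [← coe_mul, Subtype.coe_inj, Equiv.symm_apply_eq, hE]; simp
    have hι : Function.Injective ι := fun x y e => E.symm.injective (Subtype.ext e)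
    have h1 : ∀ V : AddSubgroup (GaloisField 2 f), Nat.card (V.toSubgroup.map ι) = Nat.card V := fun V =>
      card_map_of_injective hι
    obtain ⟨g, hg⟩ := h 2 2 Nat.prime_two (W.toSubgroup.map ι) (W'.toSubgroup.map ι) inferInstance inferInstance
      ((h1 W).trans hW) ((h1 W').trans hW')
    obtain ⟨m, k, rfl⟩ := dec g
    obtain ⟨a, σ, h3⟩ := hEc k
    refine ⟨a, σ, ⟨m * k, hs _ a (E m) σ (E.surjective.forall.2 fun n => (h0 m k n).trans (by rw [h3]))⟩,
      fun w' hw' => ?_⟩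
    obtain ⟨_, ⟨w, hw, rfl⟩, e⟩ := (hg ▸ mem_map_of_mem ι (show Multiplicative.ofAdd w' ∈ W'.toSubgroup from hw') :)
    refine ⟨w.toAdd, hw, ?_⟩
    rw [← E.apply_symm_apply w.toAdd, ← h3, ← Equiv.symm_apply_eq]
    exact Subtype.ext (e.symm.trans (hc m k _))
  have h5 := semi_cases φ hφ hs (hK ▸ hd)
  rw [Sz.card_ringEquiv hK, hK] at h5
  rcases hT.two hK hf with rfl | rfl | ⟨rfl, h6⟩
  · have h7 := (card_dvd_of_injective φ hφ).trans (card_subgroup_dvd_card _)
    rw [Nat.card_perm, hK] at h7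
    obtain ⟨k, hk⟩ := hd
    rw [← N.card_mul_index, hN] at hk h7 ⊢
    have := Nat.le_of_dvd (by norm_num) h7
    obtain ⟨j, hj⟩ := ho
    norm_num [Nat.factorial] at hk this ⊢
    omega
  · rcases (s.comp φ).range.eq_bot_or_eq_top_of_prime_card (hp := ⟨by rw [Sz.card_ringEquiv hK]; norm_num⟩) with e | e
    exacts [.inr ⟨le_rfl, .inl ((h5 (by norm_num)).1 e)⟩, .inr ⟨le_rfl, .inr (.inl ((h5 (by norm_num)).2 e))⟩]
  · exact .inr ⟨by norm_num, .inr (.inr ((h5 (by norm_num)).2 h6))⟩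

end CfsgLib.WCor4
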