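import Mathlib
import Cfsg.Agent.Lib.Frob.Quaternion
import Cfsg.Agent.Lib.Tech.SylowIn
import Cfsg.Agent.Lib.Core.MinNormal
import Cfsg.Agent.Lib.Coprime.Abelian
import Cfsg.Agent.Lib.Ree.Tools
import Cfsg.Agent.Lib.SolvStruct.Util

/-! Groups in which abelian subgroups of the same order are conjugate: Sylow subgroups, quotients. -/

set_option autoImplicit false
set_option linter.unusedSectionVars false

namespace CfsgLib.WCor4

open Subgroup Cfsg CfsgLib.Tech
open scoped commutatorElement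

universe u

/-- abelian subgroups of the same order are conjugate -/
def BG (G : Type*) [Group G] : Prop := ∀ A B : Subgroup G, IsMulCommutative A → IsMulCommutative B →
  Nat.card A = Nat.card B → ∃ g : G, B = cj g A

/-- generators of a generalized quaternion subgroup -/
structure QG {G : Type*} [Group G] (P : Subgroup G) (a b : G) (m : ℕ) : Prop where
  ha : a ∈ P
  hb : b ∈ P
  card : Nat.card P = 2 ^ (m + 3)
  oa : orderOf a = 2 ^ (m + 2)
  nb : b ∉ zpowers a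
  sq : b ^ 2 = a ^ 2 ^ (m + 1)
  inv : b * a * b⁻¹ = a⁻¹
  mem : ∀ x ∈ P, ∃ i : ℤ, x = a ^ i ∨ x = a ^ i * b

theorem map_cj {G Y : Type*} [Group G] [Group Y] (f : G →* Y) (g : G) (H : Subgroup G) :
    (cj g H).map f = cj (f g) (H.map f) := by
  rw [Subgroup.map_map, cj, Subgroup.map_map]; congr 1; ext; simp

variable {G : Type u} [Group G] [Finite G] {p : ℕ} [hp : Fact p.Prime]

theorem cyc_or_qg {P : Subgroup G} (hP : IsPGroup p P)
    (h : ∀ x ∈ P, ∀ y ∈ P, orderOf x = p → orderOf y = p → y ∈ zpowers x) :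
    IsCyclic P ∨ p = 2 ∧ ∃ a b m, QG P a b m := by
  refine (Frob.exists_gens_of_forall_mem_zpowers hP fun x y hx hy => ?_).imp_right ?_
  · obtain ⟨n, hn⟩ := h x x.2 y y.2 (by rwa [orderOf_coe]) (by rwa [orderOf_coe])
    exact ⟨n, Subtype.ext hn⟩
  rintro ⟨rfl, a, b, m, h1, h2, h3, h4, h5, h6⟩
  obtain ⟨m, rfl⟩ := Nat.exists_eq_add_of_le' h4
  refine ⟨rfl, a, b, m, a.2, b.2, ?_, by rwa [orderOf_coe], fun ⟨n, hn⟩ => h3 ⟨n, Subtype.ext hn⟩,
    congrArg Subtype.val h5, congrArg Subtype.val h6, fun x hx => ?_⟩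
  · rw [← (zpowers a).card_mul_index, Nat.card_zpowers, h1, h2, pow_succ _ (m + 2)]
  · obtain ⟨i, hi⟩ := Frob.exists_eq_zpow_or_of_index_two h1 h3 ⟨x, hx⟩
    exact ⟨i, hi.imp (congrArg Subtype.val) (congrArg Subtype.val)⟩

omit hp in
theorem QG.ord {P : Subgroup G} {a b : G} {m : ℕ} (h : QG P a b m) (i : ℤ) : orderOf (a ^ i * b) = 4 := by
  have h1 : (a ^ i * b) ^ 2 = a ^ 2 ^ (m + 1) := by
    rw [← h.sq]
    calc _ = a ^ i * (b * a * b⁻¹) ^ i * b ^ 2 := by rw [conj_zpow, pow_two, pow_two]; group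
      _ = _ := by rw [h.inv]; group
  refine orderOf_eq_prime_pow (p := 2) (n := 1) (fun e => ?_) ?_
  · rw [pow_one, h1, ← orderOf_dvd_iff_pow_eq_one, h.oa, Nat.pow_dvd_pow_iff_le_right (by norm_num)] at e
    omega
  · rw [pow_succ, pow_mul, pow_one, h1, ← pow_mul, ← pow_succ, ← h.oa, pow_orderOf_eq_one]

omit hp in
theorem QG.ord' {P : Subgroup G} {a b : G} {m : ℕ} (h : QG P a b m) : orderOf (a ^ 2 ^ m) = 4 := by
  rw [orderOf_pow' _ (by positivity), h.oa, Nat.gcd_eq_right (pow_dvd_pow 2 (by omega)), pow_add,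
    Nat.mul_div_cancel_left _ (by positivity)]
  rfl

omit [Finite G] hp in
theorem QG.conj_mem {P : Subgroup G} {a b : G} {m : ℕ} (h : QG P a b m) {x y : G} (hx : x ∈ P) (hy : y ∈ zpowers a) :
    x * y * x⁻¹ ∈ zpowers a := by
  obtain ⟨j, rfl⟩ := hy
  obtain ⟨i, rfl | rfl⟩ := h.mem x hx
  · exact mul_mem (mul_mem (zpow_mem_zpowers a i) (zpow_mem_zpowers a j)) (inv_mem (zpow_mem_zpowers a i))
  · rw [show a ^ i * b * a ^ j * (a ^ i * b)⁻¹ = a ^ i * (b * a * b⁻¹) ^ j * (a ^ i)⁻¹ by rw [conj_zpow]; group, h.inv]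
    exact mul_mem (mul_mem (zpow_mem_zpowers a i) (zpow_mem (inv_mem (mem_zpowers a)) j)) (inv_mem (zpow_mem_zpowers a i))

omit hp in
theorem QG.not_comm {P : Subgroup G} {a b : G} {m : ℕ} (h : QG P a b m) : b * a ≠ a * b := fun e => by
  have := h.inv
  rw [e, mul_inv_cancel_right, eq_inv_iff_mul_eq_one, ← pow_two, ← orderOf_dvd_iff_pow_eq_one, h.oa] at this
  have := Nat.le_of_dvd two_pos this
  have : 2 ^ 2 ≤ 2 ^ (m + 2) := Nat.pow_le_pow_right two_pos (by omega)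
  omega

omit hp in
theorem BG.zp (h : BG G) {x y : G} (e : orderOf x = orderOf y) : ∃ g : G, zpowers y = zpowers (g * x * g⁻¹) := by
  obtain ⟨g, e⟩ := h (zpowers x) (zpowers y) inferInstance inferInstance (by rw [Nat.card_zpowers, Nat.card_zpowers, e])
  exact ⟨g, by rw [e, cj_zpowers]⟩

omit hp in
theorem BG.mem_normal (h : BG G) {N : Subgroup G} [hN : N.Normal] {x y : G} (hx : x ∈ N) (e : orderOf x = orderOf y) :
    y ∈ N := by
  obtain ⟨g, e⟩ := h.zp e
  exact zpowers_le.2 (hN.conj_mem x hx g) (e ▸ mem_zpowers y)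

theorem BG.mem_normal' (h : BG G) {N : Subgroup G} [N.Normal] (hN : p ∣ Nat.card N) {y : G} (hy : y ^ p = 1) :
    y ∈ N := by
  by_cases h1 : y = 1
  · exact h1 ▸ one_mem N
  obtain ⟨x, hx, e⟩ := Core.exists_mem_orderOf_eq_of_dvd_card hp.out hN
  exact h.mem_normal hx (e.trans (orderOf_eq_prime hy h1).symm)

theorem BG.exp (h : BG G) {E : Subgroup G} (h1 : ∀ x ∈ E, x ^ p = 1) (h2 : Nat.card E = p ^ 2) {P : Subgroup G}
    (hP : IsPGroup p P) {x : G} (hx : x ∈ P) : x ^ p = 1 := by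
  by_contra hn
  obtain ⟨k, hk⟩ := isPGroup_zpowers_iff.1 (isPGroup_zpowers_of_mem hP hx)
  have h3 : p ^ 2 ∣ orderOf x := hk ▸ pow_dvd_pow p (by
    by_contra h3
    exact hn (orderOf_dvd_iff_pow_eq_one.1 (hk ▸ (pow_dvd_pow p (by omega)).trans (pow_one p).dvd)))
  have h4 := orderOf_pow_orderOf_div (orderOf_pos x).ne' h3
  obtain ⟨g, e⟩ := h E (zpowers (x ^ (orderOf x / p ^ 2))) (IsPGroup.isMulCommutative_of_card_eq_prime_sq h2)
    inferInstance (by rw [Nat.card_zpowers, h4, h2])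
  have h5 := orderOf_dvd_of_pow_eq_one (h1 _ (mem_cj.1 (e ▸ mem_zpowers _)))
  rw [← (SemiconjBy.orderOf_eq g⁻¹ (x := x ^ (orderOf x / p ^ 2)) (by simp [SemiconjBy])), h4] at h5
  have := Nat.le_of_dvd hp.out.pos h5
  nlinarith [hp.out.one_lt]

theorem BG.sylow (h : BG G) {P : Subgroup G} (hP : IsPGroup p P) :
    (∀ x ∈ P, x ^ p = 1) ∨ IsCyclic P ∨ p = 2 ∧ ∃ a b m, QG P a b m := by
  by_cases hE : ∀ E : Subgroup P, (∀ x ∈ E, x ^ p = 1) → Nat.card E ≠ p ^ 2
  · refine .inr (cyc_or_qg hP fun x hx y hy h1 h2 => ?_)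
    obtain ⟨n, hn⟩ := Frob.mem_zpowers_of_forall_card_sq_isCyclic hP hE ⟨x, hx⟩ ⟨y, hy⟩ (by rwa [orderOf_mk])
      (by rwa [orderOf_mk])
    exact ⟨n, congrArg Subtype.val hn⟩
  push Not at hE
  obtain ⟨E, h1, h2⟩ := hE
  refine .inl fun x hx => h.exp (E := E.map P.subtype) ?_ (by rwa [card_subtype]) hP hx
  rintro _ ⟨y, hy, rfl⟩
  exact congrArg Subtype.val (h1 y hy)

omit [Finite G] hp in
theorem comm_of_sq {P : Subgroup G} (h : ∀ x ∈ P, x ^ 2 = 1) : IsMulCommutative P := by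
  have h1 : ∀ a : P, a * a = 1 := fun a => Subtype.ext ((pow_two _).symm.trans (h a a.2))
  exact ⟨⟨fun a b => by
    rw [← inv_eq_of_mul_eq_one_right (h1 (a * b)), mul_inv_rev, inv_eq_of_mul_eq_one_right (h1 a),
      inv_eq_of_mul_eq_one_right (h1 b)]⟩⟩

/-- a normal noncyclic subgroup of exponent `p` is the Sylow `p`-subgroup -/
theorem BG.le_of_normal (h : BG G) {M : Subgroup G} [M.Normal] (h1 : ∀ x ∈ M, x ^ p = 1) (h2 : p ^ 2 ∣ Nat.card M)
    {P : Subgroup G} (hP : IsPGroup p P) : P ≤ M := fun x hx => by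
  obtain ⟨E, hE⟩ := Sylow.exists_subgroup_card_pow_prime p h2
  refine h.mem_normal' ((dvd_pow_self p two_ne_zero).trans h2) (h.exp (E := E.map M.subtype) ?_ (by rwa [card_subtype]) hP hx)
  rintro _ ⟨y, -, rfl⟩
  exact h1 y y.2

omit hp in
theorem BG.cyclic (h : BG G) [Group.IsNilpotent G] : IsCyclic G := by
  suffices IsZGroup G from inferInstance
  refine ⟨fun p hp P => ?_⟩
  have := Fact.mk hp
  have hP := Core.sylow_normal_of_not_dvd_index_pCore (Core.not_dvd_index_pCore_of_isNilpotent p) P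
  have hn : (P : Subgroup G).Normal := hP ▸ pCore_normal p G
  refine (cyc_or_qg P.isPGroup' fun x hx y hy h1 h2 => ?_).resolve_right ?_
  · obtain ⟨z, hz, e⟩ := Core.exists_mem_orderOf_eq_of_isPGroup (P.isPGroup'.to_le inf_le_left)
      (Core.inf_center_ne_bot_of_isNilpotent (N := (P : Subgroup G)) fun e : (P : Subgroup G) = ⊥ => by
        rw [e, mem_bot] at hx
        simp [hx, hp.one_lt.ne] at h1)
    have := Core.normal_of_le_center (h.mem_normal hz.2 (e.trans h1.symm) |> zpowers_le.2)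
    exact h.mem_normal (mem_zpowers x) (h1.trans h2.symm)
  rintro ⟨rfl, a, b, m, hq⟩
  obtain ⟨g, e⟩ := h.zp (hq.ord'.trans (hq.ord 0).symm)
  obtain ⟨u, hu, v, hv, rfl⟩ := (mem_sup_of_normal_right (s := P) (t := pPrimeCore 2 G)).1
    ((hP ▸ Core.pCore_sup_pPrimeCore_of_isNilpotent Nat.prime_two) ▸ mem_top g)
  have h1 : v * a ^ 2 ^ m = a ^ 2 ^ m * v := (mem_centralizer_iff.1 (Core.pPrimeCore_le_centralizer_pCore hv) _
    (hP ▸ pow_mem hq.ha _)).symm
  rw [zpow_zero, one_mul, mul_assoc u, h1, mul_inv_rev, ← mul_assoc, ← mul_assoc, mul_inv_cancel_right] at e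
  exact hq.nb (zpowers_le.2 (hq.conj_mem hu (npow_mem_zpowers a _)) (e ▸ mem_zpowers b))

theorem BG.dec (h : BG G) {Y : Type*} [Group Y] [Finite Y] {f : G →* Y} (h0 : f.ker ≠ ⊥) (hM : ∀ x ∈ f.ker, x ^ p = 1)
    (X : Subgroup Y) (hX : IsMulCommutative X) : ∃ R A : Subgroup G, IsSylowIn p R (X.comap f) ∧ f.ker ≤ R ∧
      R ⊔ A = X.comap f ∧ IsMulCommutative A ∧ Nat.card R * Nat.card A = Nat.card (X.comap f) ∧
      (R = f.ker ∨ Nat.card f.ker = p ∧ A ≤ centralizer (R : Set G)) := by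
  obtain ⟨R, hR⟩ := exists_isSylowIn p (X.comap f)
  have hMp := Core.isPGroup_of_forall_pow_eq_one hM
  have h1 : f.ker ≤ R := hR.le_of_le_normalizer hMp (ker_le_comap f X) le_normalizer_of_normal
  have h2 : ∀ a ∈ X.comap f, ∀ b ∈ X.comap f, a * b * a⁻¹ * b⁻¹ ∈ f.ker := fun a ha b hb => by
    rw [MonoidHom.mem_ker, map_mul, map_mul, map_mul, Core.isMulCommutative_iff_forall.1 hX _ ha _ hb]; simp
  have h3 : X.comap f ≤ normalizer (R : Set G) := fun a ha => mem_normalizer_of_forall fun r hr => by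
    simpa using mul_mem (h1 (h2 a ha r (hR.le hr))) hr
  have hc : (R.relIndex (X.comap f)).Coprime p := ((Nat.Prime.coprime_iff_not_dvd hp.out).2 hR.not_dvd).symm
  obtain ⟨A, a1, a2, a3, a4⟩ := Coprime.exists_complement_of_le_normalizer hR.le h3
    (Core.isPGroup_coprime_card hR.pgroup hc)
  refine ⟨R, A, hR, h1, a3, Core.isMulCommutative_iff_forall.2 fun a ha b hb => ?_,
    by rw [a4, card_mul_relIndex' hR.le], or_iff_not_imp_left.2 fun hne => ?_⟩
  · have : a * b * a⁻¹ * b⁻¹ ∈ R ⊓ A := mem_inf.2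
      ⟨h1 (h2 a (a1 ha) b (a1 hb)), mul_mem (mul_mem (mul_mem ha hb) (inv_mem ha)) (inv_mem hb)⟩
    rwa [a2, mem_bot, mul_inv_eq_one, mul_inv_eq_iff_eq_mul] at this
  have hd := Core.dvd_card_of_isPGroup_of_ne_bot hMp h0
  have h4 : Nat.card f.ker = p := by
    obtain ⟨k, hk⟩ := IsPGroup.iff_card.1 hMp
    rcases (by omega : k = 0 ∨ k = 1 ∨ 2 ≤ k) with rfl | rfl | h4
    · exact absurd (card_eq_one.1 hk) h0
    · rw [hk, pow_one]
    · exact absurd (le_antisymm (h.le_of_normal hM (hk ▸ pow_dvd_pow p h4) hR.pgroup) h1) hne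
  obtain ⟨_, ⟨c, c1, rfl⟩, c2⟩ := Core.exists_mem_orderOf_eq_of_isPGroup (hR.pgroup.map f) fun e =>
    hne (le_antisymm ((map_eq_bot_iff R).1 e) h1)
  have c3 : c ^ p ∈ f.ker := by rw [MonoidHom.mem_ker, map_pow, ← c2, pow_orderOf_eq_one]
  have c4 : c ^ p ≠ 1 := fun e => by
    rw [MonoidHom.mem_ker.1 (h.mem_normal' hd e), orderOf_one] at c2
    exact hp.out.one_lt.ne c2
  have c5 : zpowers (c ^ p) = f.ker := eq_of_le_of_card_ge (zpowers_le.2 c3)
    (by rw [Nat.card_zpowers, orderOf_eq_prime (hM _ c3) c4, h4])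
  refine ⟨h4, Coprime.le_centralizer_of_commutator_le h1 (commutator_le.2 fun r hr a ha => h2 r (hR.le hr) a (a1 ha))
    (by rwa [a4, h4]) fun a ha => ?_⟩
  have c6 := h2 a (a1 ha) c (hR.le c1)
  have c7 : Commute (a * c * a⁻¹ * c⁻¹) c := by
    obtain ⟨n, hn⟩ := mem_zpowers_iff.1 (c5 ▸ c6)
    exact hn ▸ ((Commute.refl c).pow_left p).zpow_left n
  rw [← c5, Core.centralizer_zpowers, mem_centralizer_singleton_iff, ← mul_inv_eq_iff_eq_mul, ← conj_pow,
    ← inv_mul_cancel_right (a * c * a⁻¹) c, c7.mul_pow, hM _ c6, one_mul]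

theorem BG.step (h : BG G) {Y : Type*} [Group Y] {f : G →* Y} (hf : Function.Surjective f) (h0 : f.ker ≠ ⊥)
    (hM : ∀ x ∈ f.ker, x ^ p = 1)
    (hq : Nat.card f.ker = p → ∀ R : Subgroup G, IsPGroup p R → IsMulCommutative R ∨ IsSylowIn p R ⊤) : BG Y := by
  intro X Z hX hZ e
  have := Finite.of_surjective f hf
  suffices ∃ g, Z.comap f = cj g (X.comap f) by
    obtain ⟨g, hg⟩ := this
    exact ⟨f g, by rw [← map_comap_eq_self_of_surjective hf Z, hg, map_cj, map_comap_eq_self_of_surjective hf]⟩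
  have e1 : Nat.card (X.comap f) = Nat.card (Z.comap f) := by
    rw [Core.card_comap_of_surjective hf, Core.card_comap_of_surjective hf, e]
  obtain ⟨R, A, a1, a2, a3, a4, a5, a6⟩ := h.dec h0 hM X hX
  obtain ⟨S, B, b1, b2, b3, b4, b5, b6⟩ := h.dec h0 hM Z hZ
  have e2 : Nat.card R = Nat.card S := by rw [a1.card_eq_pow, b1.card_eq_pow, e1]
  obtain ⟨g, hg⟩ := h A B a4 b4 (Nat.eq_of_mul_eq_mul_left Nat.card_pos (by rw [a5, e2, b5, e1]))
  by_cases hR : R = f.ker
  · exact ⟨g, by rw [← a3, ← b3, cj_sup, ← hg, ← eq_of_le_of_card_ge b2 (by rw [← e2, hR]), hR, cj_eq_of_normal]⟩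
  obtain ⟨a7, a8⟩ := a6.resolve_left hR
  obtain ⟨-, b8⟩ := b6.resolve_left fun e => hR (eq_of_le_of_card_ge a2 (by rw [e2, e])).symm
  have key : IsSylowIn p R ⊤ → IsSylowIn p S ⊤ → ∃ g, Z.comap f = cj g (X.comap f) := fun r1 r2 => by
    obtain ⟨c, c1, c2⟩ := ((r1.cj_of_mem (mem_top g)).of_le (K := centralizer (B : Set G)) (by
      rw [hg, ← cj_centralizer]; exact cj_mono g (le_centralizer_iff.1 a8)) le_top).exists_cj_eq
      (r2.of_le (le_centralizer_iff.1 b8) le_top)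
    exact ⟨c * g, by rw [← a3, ← b3, cj_sup, cj_mul, c2, cj_mul, ← hg,
      mem_normalizer_iff_cj.1 (centralizer_le_normalizer _ c1)]⟩
  rcases hq a7 R a1.pgroup with r1 | r1
  · rcases hq a7 S b1.pgroup with r2 | r2
    · exact h _ _ (a3 ▸ Core.isMulCommutative_sup (le_centralizer_iff.1 a8))
        (b3 ▸ Core.isMulCommutative_sup (le_centralizer_iff.1 b8)) e1
    · exact key (r2.of_card_le a1.pgroup le_top e2.ge) r2
  · exact key r1 (r1.of_card_le b1.pgroup le_top e2.le)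

/-- if a normal subgroup has order `p`, the `p`-subgroups are cyclic or quaternion -/
theorem BG.rank_one (h : BG G) {M : Subgroup G} [M.Normal] (hM : Nat.card M = p) {R : Subgroup G} (hR : IsPGroup p R) :
    IsCyclic R ∨ p = 2 ∧ ∃ a b m, QG R a b m :=
  cyc_or_qg hR fun x _ y _ hx hy => by
    have k : ∀ x : G, orderOf x = p → x ∈ M := fun x hx => h.mem_normal' hM.symm.dvd (hx ▸ pow_orderOf_eq_one x)
    rw [eq_of_le_of_card_ge (zpowers_le.2 (k x hx)) (by rw [Nat.card_zpowers, hx, hM])]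
    exact k y hy

omit [Finite G] hp in
theorem BG.ind (C : (G : Type u) → [Group G] → Subgroup G → Prop)
    (hs : ∀ (G : Type u) [Group G] [Finite G] (K : Subgroup G), C G K → Group.IsSolvable K)
    (hC : ∀ (G : Type u) [Group G] (K N : Subgroup G) [N.Normal], C G K → C (G ⧸ N) (K.map (QuotientGroup.mk' N)))
    (hq : ∀ (G : Type u) [Group G] [Finite G] (K M : Subgroup G) [M.Normal], BG G → C G K → M ≤ K → Nat.card M = 2 →
      ∀ R : Subgroup G, IsPGroup 2 R → IsMulCommutative R ∨ IsSylowIn 2 R ⊤) (n : ℕ) :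
    ∀ (G : Type u) [Group G] [Finite G], BG G → ∀ {Y : Type*} [Group Y] (f : G →* Y), Function.Surjective f →
      C G f.ker → Nat.card f.ker = n → BG Y := by
  induction n using Nat.strong_induction_on with | _ n ih
  intro G _ _ h Y _ f hf h1 h2
  by_cases h0 : f.ker = ⊥
  · intro X Z hX hZ e
    have hi := (MonoidHom.ker_eq_bot_iff f).1 h0
    obtain ⟨g, hg⟩ := h (X.comap f) (Z.comap f) (comap_injective_isMulCommutative X hi)
      (comap_injective_isMulCommutative Z hi)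
      (by rw [Core.card_comap_of_surjective hf, Core.card_comap_of_surjective hf, e])
    exact ⟨f g, by rw [← map_comap_eq_self_of_surjective hf Z, hg, map_cj, map_comap_eq_self_of_surjective hf]⟩
  have := hs G _ h1
  obtain ⟨p, N, hp, _, n1, n2, n3, -⟩ := Core.exists_elementaryAbelian_minimal_normal_le h0
  have := Fact.mk hp
  have hk : (QuotientGroup.lift N f n2).ker = f.ker.map (QuotientGroup.mk' N) := QuotientGroup.ker_lift N f n2
  refine ih _ ?_ (G ⧸ N) (h.step (p := p) (QuotientGroup.mk'_surjective N) (by rwa [QuotientGroup.ker_mk'])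
    (by rw [QuotientGroup.ker_mk']; exact n3.2) fun e R hR => ?_) (QuotientGroup.lift N f n2)
    (QuotientGroup.lift_surjective_of_surjective N f hf n2) (hk ▸ hC G _ N h1) rfl
  · have := Core.card_map_mk'_mul_card_inf f.ker N
    rw [inf_eq_right.2 n2, ← hk, h2] at this
    have h3 := (one_lt_card_iff_ne_bot N).2 n1
    have : 0 < Nat.card (QuotientGroup.lift N f n2).ker := Nat.card_pos
    nlinarith
  · rw [QuotientGroup.ker_mk'] at e
    rcases h.rank_one e hR with h3 | ⟨rfl, -⟩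
    · exact .inl h3.isMulCommutative
    · exact hq G _ N h h1 n2 e R hR

omit hp in
theorem BG.odd [Group.IsSolvable G] (h : BG G) {Y : Type*} [Group Y] {f : G →* Y} (hf : Function.Surjective f)
    (ho : Odd (Nat.card f.ker)) : BG Y :=
  BG.ind (fun G _ K => Odd (Nat.card K) ∧ Group.IsSolvable K) (fun _ _ _ _ h => h.2)
    (fun _ _ K _ _ h => ⟨h.1.of_dvd_nat (card_map_dvd _ _), have := h.2; Core.isSolvable_map _ K⟩)
    (fun _ _ _ _ _ _ _ h1 h2 h3 => absurd (h3 ▸ card_dvd_of_le h2) h1.1.not_two_dvd_nat) _ G h f hf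
    ⟨ho, inferInstance⟩ rfl

omit hp in
theorem BG.quat [Group.IsSolvable G] (h : BG G) (hc : ∀ q : ℕ, q.Prime → q ≠ 2 → IsCyclic (pCore q G))
    {P : Subgroup G} (hP : IsSylowIn 2 P ⊤) {a b : G} {m : ℕ} (hq : QG P a b m) : P.Normal ∧ m = 0 := by
  have := Fact.mk Nat.prime_two
  have := Core.fittingSubgroup_normal G
  have key : ∀ (N : Subgroup G) [N.Normal] (i : ℤ), a ^ i * b ∈ N → a ∈ N ∧ b ∈ N := fun N _ i hi => by
    have h1 := h.mem_normal hi ((hq.ord i).trans (hq.ord 0).symm)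
    have h2 := h.mem_normal hi ((hq.ord i).trans (hq.ord 1).symm)
    rw [zpow_zero, one_mul] at h1
    rw [zpow_one] at h2
    exact ⟨(mul_mem_cancel_right h1).1 h2, h1⟩
  have h1 : ¬ IsCyclic (fittingSubgroup G) := fun h1 => by
    obtain ⟨g, e⟩ := h.zp (hq.ord'.trans (hq.ord 0).symm)
    obtain ⟨j, hj⟩ := mem_zpowers_iff.1 (e ▸ mem_zpowers (a ^ (0 : ℤ) * b))
    rw [zpow_zero, one_mul, conj_zpow, ← zpow_natCast, ← zpow_mul] at hj
    obtain ⟨h2, h3⟩ := key _ (-((2 ^ m : ℕ) * j)) (Core.centralizer_fittingSubgroup_le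
      (SolvStruct.commutator_le_centralizer_of_cyclic _ (by
        rw [show a ^ (-((2 ^ m : ℕ) * j)) * b = ⁅a ^ (-((2 ^ m : ℕ) * j)), g⁆ by rw [← hj, commutatorElement_def]; group]
        exact commutator_mem_commutator (mem_top _) (mem_top g))))
    exact hq.not_comm (Core.isMulCommutative_iff_forall.1 h1.isMulCommutative _ h3 _ h2)
  have h2 : ¬ IsCyclic (pCore 2 G) := fun h2 => h1 (by
    have := Core.isNilpotent_fittingSubgroup G
    suffices IsZGroup (fittingSubgroup G) from inferInstance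
    refine ⟨fun q hq Q => ?_⟩
    have : IsCyclic (pCore q G) := by
      by_cases e : q = 2
      exacts [e ▸ h2, hc q hq e]
    exact (Q.toSubgroup.equivMapOfInjective _ (subtype_injective _)).isCyclic.2 (isCyclic_of_le
      (Core.le_pCore_of_le_fittingSubgroup (map_subtype_le Q.toSubgroup) (Q.isPGroup'.map _))))
  have h3 : pCore 2 G ≤ P := hP.le_of_le_normalizer (Core.isPGroup_pCore 2 G) le_top le_normalizer_of_normal
  obtain ⟨x, x1, x2⟩ := SetLike.not_le_iff_exists.1 fun e : pCore 2 G ≤ zpowers a => h2 (isCyclic_of_le e)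
  obtain ⟨i, rfl | rfl⟩ := hq.mem x (h3 x1)
  · exact absurd (zpow_mem_zpowers a i) x2
  obtain ⟨h4, h5⟩ := key _ i x1
  have h6 : P.Normal := by
    rw [le_antisymm (fun y hy => ?_) h3]
    · infer_instance
    obtain ⟨j, rfl | rfl⟩ := hq.mem y hy
    exacts [zpow_mem h4 j, mul_mem (zpow_mem h4 j) h5]
  refine ⟨h6, by_contra fun h7 => hq.nb ?_⟩
  have : (zpowers a).Normal := ⟨fun _ ⟨j, hj⟩ g => by
    obtain ⟨k, e | e⟩ := hq.mem _ (h6.conj_mem a hq.ha g)
    · rw [← hj, ← conj_zpow, e]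
      exact zpow_mem (zpow_mem_zpowers a k) j
    have h8 := hq.ord k
    rw [← e, ← SemiconjBy.orderOf_eq g (x := a) (by simp [SemiconjBy]), hq.oa] at h8
    exact absurd (Nat.pow_right_injective le_rfl (h8.trans (show 4 = 2 ^ 2 from rfl))) (by simpa)⟩
  simpa using h.mem_normal (npow_mem_zpowers a _) (hq.ord'.trans (hq.ord 0).symm)

omit [Finite G] hp in
theorem QG.map {Y : Type*} [Group Y] {f : G →* Y} {P : Subgroup G} (hf : P ⊓ f.ker = ⊥) {a b : G} {m : ℕ}
    (hq : QG P a b m) : QG (P.map f) (f a) (f b) m := by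
  have hi : Function.Injective (f.comp P.subtype) := (injective_iff_map_eq_one _).2 fun x hx =>
    Subtype.ext (mem_bot.1 (hf ▸ mem_inf.2 ⟨x.2, hx⟩))
  refine ⟨mem_map_of_mem f hq.ha, mem_map_of_mem f hq.hb, ?_, ?_, fun ⟨n, hn⟩ => hq.nb ⟨n, ?_⟩,
    by rw [← map_pow, hq.sq, map_pow], by rw [← map_inv, ← map_mul, ← map_mul, hq.inv, map_inv], ?_⟩
  · rw [← hq.card, ← Core.card_map_mul_card_inf_ker f P, hf, card_bot, mul_one]
  · exact (orderOf_injective _ hi ⟨a, hq.ha⟩).trans ((orderOf_mk _ _).trans hq.oa)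
  · exact congrArg Subtype.val (hi (a₁ := ⟨a, hq.ha⟩ ^ n) (a₂ := ⟨b, hq.hb⟩) ((map_zpow _ _ n).trans hn))
  · rintro _ ⟨x, hx, rfl⟩
    obtain ⟨i, rfl | rfl⟩ := hq.mem x hx
    exacts [⟨i, .inl (map_zpow f a i)⟩, ⟨i, .inr (by rw [map_mul, map_zpow])⟩]

theorem IsSylowIn.map_top {Y : Type*} [Group Y] {f : G →* Y} (hf : Function.Surjective f) {P : Subgroup G}
    (hP : IsSylowIn p P ⊤) : IsSylowIn p (P.map f) ⊤ :=
  have := Finite.of_surjective f hf
  IsSylowIn.of_sylow_top (hP.toSylowTop.mapSurjective hf)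

omit hp in
/-- a quaternion Sylow subgroup has order eight -/
theorem BG.eight [Group.IsSolvable G] (h : BG G) {P : Subgroup G} (hP : IsSylowIn 2 P ⊤) {a b : G} {m : ℕ}
    (hq : QG P a b m) : m = 0 := by
  have := Fact.mk Nat.prime_two
  have hk := QuotientGroup.ker_mk' (pPrimeCore 2 G)
  refine ((h.odd (QuotientGroup.mk'_surjective _) (hk.symm ▸ Core.odd_card_oddCore G)).quat (fun q h1 h2 => ?_)
    (IsSylowIn.map_top (QuotientGroup.mk'_surjective _) hP)
    (hq.map (hk.symm ▸ Core.isPGroup_inf_eq_bot_of_coprime hP.pgroup (Core.coprime_card_pPrimeCore 2 G)))).2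
  rw [eq_bot_iff.2 ((Core.pCore_le_pPrimeCore_of_ne h1 Nat.prime_two h2).trans
    (Core.pPrimeCore_quotient_pPrimeCore 2 G).le)]
  infer_instance

omit hp in
theorem BG.of_surjective [Group.IsSolvable G] (h : BG G) {Y : Type*} [Group Y] {f : G →* Y}
    (hf : Function.Surjective f) : BG Y := by
  refine BG.ind (fun G _ _ => Group.IsSolvable G) (fun _ _ _ _ _ => inferInstance) (fun _ _ _ _ _ _ => inferInstance)
    (fun G _ _ _ M _ h _ _ h1 R hR => ?_) _ G h f hf inferInstance rfl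
  have := Fact.mk Nat.prime_two
  obtain ⟨P, h2, h3⟩ := exists_isSylowIn_ge hR le_top
  rcases h.rank_one h1 h2.pgroup with h4 | ⟨-, a, b, m, h4⟩
  · exact .inl (isCyclic_of_le h3).isMulCommutative
  rcases h.rank_one h1 hR with h5 | ⟨-, c, d, n, h5⟩
  · exact .inl h5.isMulCommutative
  · refine .inr (h2.of_card_le hR le_top ?_)
    rw [h4.card, h5.card, h.eight h2 h4]
    exact Nat.pow_le_pow_right two_pos (by omega)

end CfsgLib.WCor4
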