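import Mathlib
import Cfsg.Agent.Lib.WCor4.Syl
import Cfsg.Agent.Lib.WCor4.Bg
import Cfsg.Agent.Lib.Coprime.Generation

/-! Solvable groups in which subgroups of the same order are conjugate. -/

set_option autoImplicit false
set_option linter.unusedSectionVars false

namespace CfsgLib.WCor4

open Subgroup Cfsg CfsgLib.Tech

universe u

/-- subgroups of the same order are conjugate -/
def CG (G : Type*) [Group G] : Prop := ∀ H K : Subgroup G, Nat.card H = Nat.card K → ∃ g : G, K = cj g H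

/-- `p`-subgroups of the same order are conjugate -/
def DP (p : ℕ) (G : Type*) [Group G] : Prop := ∀ H K : Subgroup G, IsPGroup p H → IsPGroup p K →
  Nat.card H = Nat.card K → ∃ g : G, K = cj g H

/-- the `p`-subgroups are cyclic -/
def CP (p : ℕ) (G : Type*) [Group G] : Prop := ∀ H : Subgroup G, IsPGroup p H → IsCyclic H

variable {G : Type u} [Group G] [Finite G] {Y : Type*} [Group Y] {p : ℕ} [hp : Fact p.Prime]

theorem exists_sylow_comap {f : G →* Y} (hf : Function.Surjective f) (H : Subgroup Y) (hH : IsPGroup p H) :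
    ∃ P, IsSylowIn p P (H.comap f) ∧ P.map f = H := by
  obtain ⟨R⟩ : Nonempty (Sylow p (H.comap f)) := inferInstance
  refine ⟨_, .of_sylow_subgroup R, le_antisymm (map_le_iff_le_comap.2 (map_subtype_le _)) fun y hy => ?_⟩
  obtain ⟨x, hx, e⟩ : (⟨y, hy⟩ : H) ∈ (R : Subgroup _).map (f.subgroupComap H) :=
    ((R.mapSurjective (f.subgroupComap_surjective_of_surjective H hf)).is_maximal' (hH.to_subgroup ⊤) le_top).le trivial
  exact ⟨x, ⟨x, hx, rfl⟩, congrArg Subtype.val e⟩

theorem DP.of_surjective (hD : DP p G) {f : G →* Y} (hf : Function.Surjective f) : DP p Y := by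
  intro H K hH hK e
  obtain ⟨P, h1, rfl⟩ := exists_sylow_comap hf H hH
  obtain ⟨Q, h2, rfl⟩ := exists_sylow_comap hf K hK
  obtain ⟨g, rfl⟩ := hD P Q h1.pgroup h2.pgroup (by
    rw [h1.card_eq_pow, h2.card_eq_pow, Core.card_comap_of_surjective hf, Core.card_comap_of_surjective hf, e])
  exact ⟨f g, map_cj f g P⟩

theorem CP.of_surjective (h : CP p G) {f : G →* Y} (hf : Function.Surjective f) : CP p Y := fun H hH => by
  obtain ⟨P, h1, rfl⟩ := exists_sylow_comap hf H hH
  have := h P h1.pgroup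
  exact isCyclic_of_surjective _ (f.subgroupMap_surjective P)

theorem CP.subgroup (h : CP p G) (N : Subgroup G) : CP p N := fun H hH =>
  (H.equivMapOfInjective _ N.subtype_injective).isCyclic.2 (h _ (hH.map _))

theorem CP.of_sylow {P : Subgroup G} (h1 : IsSylowIn p P ⊤) (h2 : IsCyclic P) : CP p G := fun H hH => by
  obtain ⟨g, -, h3⟩ := h1.exists_cj_le hH le_top
  exact (cjEquiv g H).isCyclic.2 (isCyclic_of_le h3)

theorem CP.of_not_dvd (h : ¬ p ∣ Nat.card G) : CP p G := fun H hH => by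
  rw [show H = ⊥ from by_contra fun e => h ((Core.dvd_card_of_isPGroup_of_ne_bot hH e).trans (card_subgroup_dvd_card H))]
  infer_instance

theorem CP.dp (h : CP p G) : DP p G := fun H K hH hK e => by
  obtain ⟨P, h1, h2⟩ := exists_isSylowIn_ge hK le_top
  obtain ⟨g, -, h3⟩ := h1.exists_cj_le hH le_top
  exact ⟨g, Ree.eq_of_card_eq_of_isCyclic (h P h1.pgroup) h2 h3 (by rw [card_cj, e])⟩

theorem DP.exp_or (hD : DP p G) {P : Subgroup G} (hP : IsPGroup p P) :
    (∀ x ∈ P, x ^ p = 1) ∨ IsCyclic P ∨ p = 2 ∧ Nonempty (P ≃* QuaternionGroup 2) := by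
  refine (WCor4.exp_or hP fun H K h => ?_).imp_left fun h x hx => congrArg Subtype.val (h ⟨x, hx⟩)
  obtain ⟨g, e⟩ := hD (H.map P.subtype) (K.map P.subtype) ((hP.to_subgroup H).map _)
    ((hP.to_subgroup K).map _) (by rw [card_subtype, card_subtype, h])
  exact ⟨(((H.equivMapOfInjective _ P.subtype_injective).trans (cjEquiv g _)).trans
    (MulEquiv.subgroupCongr e.symm)).trans (K.equivMapOfInjective _ P.subtype_injective).symm⟩

theorem DP.exists_conj (hD : DP p G) {x y : G} (hx : orderOf x = p) (hy : orderOf y = p) :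
    ∃ g : G, zpowers y = zpowers (g * x * g⁻¹) := by
  obtain ⟨g, e⟩ := hD (zpowers x) (zpowers y) (isPGroup_zpowers_iff.2 ⟨1, by rw [hx, pow_one]⟩)
    (isPGroup_zpowers_iff.2 ⟨1, by rw [hy, pow_one]⟩) (by rw [Nat.card_zpowers, Nat.card_zpowers, hx, hy])
  exact ⟨g, by rw [e, cj_zpowers]⟩

theorem DP.mem_normal (hD : DP p G) {N : Subgroup G} [hN : N.Normal] (h : p ∣ Nat.card N) {y : G} (hy : y ^ p = 1) :
    y ∈ N := by
  by_cases h1 : y = 1
  · exact h1 ▸ one_mem N
  obtain ⟨x, hx, e⟩ := Core.exists_mem_orderOf_eq_of_dvd_card hp.out h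
  obtain ⟨g, e⟩ := hD.exists_conj e (orderOf_eq_prime hy h1)
  exact zpowers_le.2 (hN.conj_mem x hx g) (e ▸ mem_zpowers y)

omit [Finite G] hp in
theorem exists_cj_of_subgroupOf {N A B : Subgroup G} (hA : A ≤ N) (hB : B ≤ N)
    (h : ∃ g : N, B.subgroupOf N = cj g (A.subgroupOf N)) : ∃ g ∈ N, B = cj g A := by
  obtain ⟨g, e⟩ := h
  exact ⟨g, g.2, by rw [← map_subgroupOf_eq_of_le hB, e, map_cj, map_subgroupOf_eq_of_le hA]; rfl⟩

omit hp in
theorem glue {f : G →* Y} (hc : IsMulCommutative f.ker) {H K : Subgroup G} (e : Nat.card H = Nat.card K)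
    (e1 : H ⊓ f.ker = K ⊓ f.ker) (h : f.ker ≤ H ∨ (Nat.card f.ker).Coprime (Nat.card (H.map f)))
    (hN : CG ((normalizer ((H ⊓ f.ker : Subgroup G) : Set G)).map f)) : ∃ g, K = cj g H := by
  have hn : ∀ H : Subgroup G, H ≤ normalizer ((H ⊓ f.ker : Subgroup G) : Set G) := fun H x hx =>
    mem_normalizer_iff_cj.2 (by rw [cj_inf, cj_eq_of_mem hx, cj_eq_of_normal])
  have e2 : Nat.card (H.map f) = Nat.card (K.map f) := Nat.eq_of_mul_eq_mul_right Nat.card_pos (by
    rw [Core.card_map_mul_card_inf_ker, e, e1, Core.card_map_mul_card_inf_ker])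
  have h1 := map_mono (f := f) (hn H)
  have h2 := map_mono (f := f) (e1 ▸ hn K)
  obtain ⟨_, ⟨n, n1, rfl⟩, n2⟩ := exists_cj_of_subgroupOf h1 h2 (hN _ _ (by
    rw [Core.card_subgroupOf_of_le h1, Core.card_subgroupOf_of_le h2, e2]))
  rw [← map_cj, map_eq_map_iff] at n2
  rcases h with h | h
  · exact ⟨n, by rwa [sup_eq_left.2 (inf_eq_right.1 (e1 ▸ inf_eq_right.2 h)),
      sup_eq_left.2 ((cj_eq_of_normal n _).ge.trans (cj_mono n h))] at n2⟩
  have e3 : (K ⊓ f.ker).relIndex K = Nat.card (H.map f) := Nat.eq_of_mul_eq_mul_left Nat.card_pos (by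
    rw [card_mul_relIndex' inf_le_left, e2, mul_comm, Core.card_map_mul_card_inf_ker])
  obtain ⟨A, a1, -, a3, a4⟩ := Coprime.exists_complement_of_le_normalizer inf_le_left (hn K)
    (e3 ▸ h.coprime_dvd_left (card_dvd_of_le inf_le_right))
  obtain ⟨k, k1, k2⟩ := Coprime.exists_conj_smul_le_of_le_sup (K := f.ker) (A := A) (S := cj n H)
    le_normalizer_of_normal (a1.trans (le_sup_left.trans (n2.trans (sup_comm _ _)).le)) (by rw [a4, e3]; exact h.symm)
    (.inr (Core.isSolvable_of_isMulCommutative))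
  refine ⟨k⁻¹ * n, ?_⟩
  rw [cj_mul, ← eq_of_le_of_card_ge (show cj k K ≤ cj n H from ?_) (by rw [card_cj, card_cj, e]), cj_inv_cj]
  rw [← a3, cj_sup]
  refine sup_le (cj_le_iff.2 fun x hx => ?_) k2
  rw [Core.isMulCommutative_iff_forall.1 hc k k1 x hx.2, mul_inv_cancel_right]
  exact cj_mono n inf_le_left ((mem_normalizer_iff_cj.1 n1).symm ▸ e1 ▸ hx)

omit hp [Finite G] in
theorem CG.top (h : CG G) {N : Subgroup G} (hN : N = ⊤) : CG N := fun A B e => by
  obtain ⟨g, hg⟩ := h (A.map N.subtype) (B.map N.subtype) (by rw [card_subtype, card_subtype, e])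
  exact ⟨⟨g, hN ▸ mem_top g⟩, map_injective N.subtype_injective (by rw [map_cj, hg]; rfl)⟩

theorem CG.of_prime {f : G →* Y} (hf : Function.Surjective f) (h1 : Nat.card f.ker = p)
    (h2 : ∀ x : G, x ^ p = 1 → x ∈ f.ker) (h : CG Y) : CG G := fun H K e => by
  have hc := (isCyclic_of_prime_card h1).isMulCommutative
  have key : ∀ U : Subgroup G, U.Normal → CG ((normalizer (U : Set G)).map f) := fun U hU =>
    h.top (by rw [normalizer_eq_top, map_top_of_surjective f hf])
  by_cases h3 : p ∣ Nat.card H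
  · have h4 : ∀ H : Subgroup G, p ∣ Nat.card H → f.ker ≤ H := fun H h3 => by
      obtain ⟨x, x1, x2⟩ := Core.exists_mem_orderOf_eq_of_dvd_card hp.out h3
      rw [← eq_of_le_of_card_ge (zpowers_le.2 (h2 x (x2 ▸ pow_orderOf_eq_one x))) (by rw [Nat.card_zpowers, x2, h1])]
      exact zpowers_le.2 x1
    exact glue hc e (by rw [inf_eq_right.2 (h4 H h3), inf_eq_right.2 (h4 K (e ▸ h3))]) (.inl (h4 H h3))
      (key _ (by rw [inf_eq_right.2 (h4 H h3)]; infer_instance))
  · have h4 := (hp.out.coprime_iff_not_dvd.2 h3).symm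
    rw [← h1] at h4
    exact glue hc e (by rw [Core.inf_eq_bot_of_coprime_card h4, Core.inf_eq_bot_of_coprime_card (e ▸ h4)])
      (.inr (h4.coprime_dvd_left (card_map_dvd _ _)).symm)
      (key _ (by rw [Core.inf_eq_bot_of_coprime_card h4]; infer_instance))

omit hp in
theorem CG.of_hall {f : G →* Y} (hc : IsMulCommutative f.ker) (h1 : (Nat.card f.ker).Coprime (Nat.card Y))
    (h2 : ∀ U W : Subgroup G, U ≤ f.ker → W ≤ f.ker → Nat.card U = Nat.card W → ∃ g, W = cj g U)
    (h3 : ∀ U ≤ f.ker, CG ((normalizer (U : Set G)).map f)) : CG G := fun H K e => by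
  have key : ∀ H K : Subgroup G, Nat.card H = Nat.card K → Nat.card ↥(H ⊓ f.ker) ∣ Nat.card ↥(K ⊓ f.ker) :=
    fun H K e => ((h1.coprime_dvd_left (card_dvd_of_le inf_le_right)).coprime_dvd_right
      (card_subgroup_dvd_card (K.map f))).dvd_of_dvd_mul_left
      (by rw [Core.card_map_mul_card_inf_ker, ← e]; exact card_dvd_of_le inf_le_left)
  obtain ⟨g, hg⟩ := h2 _ _ inf_le_right inf_le_right (Nat.dvd_antisymm (key H K e) (key K H e.symm))
  rw [cj_inf, cj_eq_of_normal g f.ker] at hg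
  obtain ⟨k, hk⟩ := glue hc ((card_cj g H).trans e) hg.symm (.inr (h1.coprime_dvd_right (card_subgroup_dvd_card _)))
    (h3 _ inf_le_right)
  exact ⟨k * g, by rw [hk, cj_mul]⟩

omit hp [Finite G] in
theorem cg_of_dp (r n : ℕ) : ∀ (G : Type u) [Group G] [Finite G] [Group.IsSolvable G], Nat.card G = n →
    (∀ p : ℕ, p.Prime → DP p G) → (∀ p : ℕ, p.Prime → p ≠ r → CP p G) → CG G := by
  induction n using Nat.strong_induction_on with | _ n ih
  intro G _ _ _ hn h1 h2
  rcases subsingleton_or_nontrivial G with h0 | h0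
  · exact fun H K _ => ⟨1, Subsingleton.elim _ _⟩
  obtain ⟨p, M, hp, _, m1, m2, -⟩ := Core.exists_elementaryAbelian_minimal_normal G
  have := Fact.mk hp
  have hf := QuotientGroup.mk'_surjective M
  have hk := QuotientGroup.ker_mk' M
  have hM := Core.isElementaryAbelian_isPGroup m2
  have hd := Core.dvd_card_of_isPGroup_of_ne_bot hM m1
  have hlt := hn ▸ Core.card_quotient_lt_of_ne_bot m1
  have h3 : ∀ q : ℕ, q.Prime → q ≠ r → CP q (G ⧸ M) := fun q hq e => have := Fact.mk hq; (h2 q hq e).of_surjective hf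
  by_cases h4 : Nat.card M = p
  · exact .of_prime hf (hk.symm ▸ h4) (fun x hx => hk.symm ▸ (h1 p hp).mem_normal hd hx)
      (ih _ hlt _ rfl (fun q hq => have := Fact.mk hq; (h1 q hq).of_surjective hf) h3)
  have h5 : ¬ IsCyclic M := fun h5 => h4 (Nat.dvd_antisymm (h5.exponent_eq_card ▸
    Monoid.exponent_dvd_of_forall_pow_eq_one fun x => Subtype.ext (m2.2 x x.2)) hd)
  obtain rfl : p = r := by_contra fun e => h5 (h2 p hp e M hM)
  obtain ⟨P, p1, p2⟩ := exists_isSylowIn_ge hM le_top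
  obtain rfl : P = M := by
    rcases (h1 p hp).exp_or p1.pgroup with h6 | h6 | ⟨rfl, ⟨e⟩⟩
    · exact le_antisymm (fun x hx => (h1 p hp).mem_normal hd (h6 x hx)) p2
    · exact absurd (isCyclic_of_le p2) h5
    refine absurd (Frob.isCyclic_subgroup_of_forall_mem_zpowers m2.1 fun q _ x hx y hy x1 y1 => ?_) h5
    have q2 : ∀ a b : QuaternionGroup 2, a ^ 2 = 1 → b ^ 2 = 1 → a = 1 ∨ b = 1 ∨ b = a := by decide
    have k : ∀ x (hx : x ∈ M), e ⟨x, p2 hx⟩ ^ 2 = 1 := fun x hx => by
      rw [← map_pow, EmbeddingLike.map_eq_one_iff]; exact Subtype.ext (m2.2 x hx)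
    rcases q2 _ _ (k x hx) (k y hy) with h | h | h
    · rw [← x1, show x = 1 from congrArg Subtype.val (EmbeddingLike.map_eq_one_iff.1 h), orderOf_one,
        orderOf_eq_one_iff] at y1
      exact y1 ▸ one_mem _
    · exact (show y = 1 from congrArg Subtype.val (EmbeddingLike.map_eq_one_iff.1 h)) ▸ one_mem _
    · exact (show y = x from congrArg Subtype.val (e.injective h)) ▸ mem_zpowers _
  have h6 : ¬ p ∣ Nat.card (G ⧸ P) := by simpa [index_eq_card] using p1.not_dvd
  refine .of_hall (hk.symm ▸ m2.1) (hk.symm ▸ Core.isPGroup_coprime_card hM (hp.coprime_iff_not_dvd.2 h6).symm)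
    (fun U W u w => h1 p hp U W (hM.to_le (hk ▸ u)) (hM.to_le (hk ▸ w))) fun U _ =>
    ih _ ((Subgroup.card_le_card_group _).trans_lt hlt) _ rfl (fun q hq => ?_) fun q hq e => ?_
  · have := Fact.mk hq
    by_cases e : q = p
    exacts [((CP.of_not_dvd (e ▸ h6)).subgroup _).dp, ((h3 q hq e).subgroup _).dp]
  · have := Fact.mk hq
    exact (h3 q hq e).subgroup _

end CfsgLib.WCor4
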