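import Mathlib
import Cfsg.Agent.Lib.WCor4.Cg

/-! Solvable groups in which abelian subgroups of the same order are conjugate. -/

set_option autoImplicit false
set_option linter.unusedSectionVars false

namespace CfsgLib.WCor4

open Subgroup Cfsg CfsgLib.Tech

universe u

variable {G : Type u} [Group G] [Finite G] {p : ℕ} [hp : Fact p.Prime]

theorem normal_of_sylowIn {P X : Subgroup G} [X.Normal] (h : IsSylowIn p P X) (hn : X ≤ normalizer (P : Set G)) :
    P.Normal := ⟨fun _ hx g => h.le_of_normalizes (isPGroup_cj g h.pgroup) ((cj_mono g h.le).trans (cj_eq_of_normal g X).le)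
      (((cj_mono g h.le).trans (cj_eq_of_normal g X).le).trans hn) (conj_mem_cj.2 hx)⟩

omit [Finite G] hp in
theorem le_normalizer_of_comm {F U : Subgroup G} (hF : IsMulCommutative F) (h : U ≤ F) : F ≤ normalizer (U : Set G) :=
  le_trans (fun x hx => mem_centralizer_iff.2 fun y hy => Core.isMulCommutative_iff_forall.1 hF y (h hy) x hx)
    (centralizer_le_normalizer _)

omit [Finite G] in
theorem BG.normal_sylow (n : ℕ) : ∀ (G : Type u) [Group G] [Finite G] [Group.IsSolvable G], Nat.card G = n → BG G →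
    ∀ P : Subgroup G, IsSylowIn p P ⊤ → (∀ x ∈ P, x ^ p = 1) → ¬ IsCyclic P → P.Normal ∧ IsMulCommutative P := by
  induction n using Nat.strong_induction_on with | _ n ih
  intro G _ _ _ hn h P hP h1 h2
  have : Nontrivial G := not_subsingleton_iff_nontrivial.1 fun _ => h2 inferInstance
  obtain ⟨q, M, hq, _, m1, m2, -⟩ := Core.exists_elementaryAbelian_minimal_normal G
  have := Fact.mk hq
  have hM := Core.isElementaryAbelian_isPGroup m2
  have := m2.1
  by_cases e : q = p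
  · subst e
    rw [← hP.eq_of_le hM (fun x hx => h.mem_normal' (Core.dvd_card_of_isPGroup_of_ne_bot hM m1) (h1 x hx)) le_top]
    exact ⟨inferInstance, m2.1⟩
  have hf := QuotientGroup.mk'_surjective M
  have hc : (Nat.card P).Coprime (Nat.card M) := IsPGroup.coprime_card_of_ne p q (Ne.symm e) _ _ hP.pgroup hM
  have hd := Core.inf_eq_bot_of_coprime_card hc
  have hi : Function.Injective ((QuotientGroup.mk' M).subgroupMap P) := (injective_iff_map_eq_one _).2 fun x hx =>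
    Subtype.ext (mem_bot.1 (hd ▸ mem_inf.2 ⟨x.2, (QuotientGroup.eq_one_iff _).1 (congrArg Subtype.val hx)⟩))
  have e1 := MulEquiv.ofBijective _ ⟨hi, MonoidHom.subgroupMap_surjective _ _⟩
  obtain ⟨h3, h4⟩ := ih _ (hn ▸ Core.card_quotient_lt_of_ne_bot m1) _ rfl (h.of_surjective hf) _
    (IsSylowIn.map_top hf hP) (by rintro _ ⟨x, hx, rfl⟩; rw [← map_pow, h1 x hx, map_one]) fun e => h2 (e1.isCyclic.2 e)
  have h5 : IsMulCommutative P := ⟨⟨fun a b => e1.injective (by rw [map_mul, map_mul, h4.is_comm.comm])⟩⟩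
  have hX : (P ⊔ M).Normal := by
    have := h3.comap (QuotientGroup.mk' M)
    rwa [comap_map_eq, QuotientGroup.ker_mk'] at this
  have cM := Core.isMulCommutative_iff_forall.1 m2.1
  have cP := Core.isMulCommutative_iff_forall.1 h5
  obtain ⟨a, a1, a2, a3⟩ := Coprime.exists_centralizer_ne_bot h2 le_normalizer_of_normal hc m1
  obtain ⟨⟨c, c1, c2⟩, c3⟩ := ne_bot_iff_exists_ne_one.1 a3
  have k1 : ∀ m ∈ M, P ⊓ centralizer {m} ≠ ⊥ := fun m hm e => by
    by_cases h6 : m = 1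
    · exact a2 (mem_bot.1 (e ▸ mem_inf.2 ⟨a1, mem_centralizer_singleton_iff.2 (by simp [h6])⟩))
    obtain ⟨g, hg⟩ := h.zp ((orderOf_eq_prime (m2.2 c c1) fun e => c3 (Subtype.ext e)).trans
      (orderOf_eq_prime (m2.2 m hm) h6).symm)
    have h7 : g * a * g⁻¹ ∈ centralizer {m} := by
      rw [← Core.centralizer_zpowers, hg, Core.centralizer_zpowers, ← cj_centralizer_singleton, conj_mem_cj]
      exact mem_centralizer_singleton_iff.2 (mem_centralizer_singleton_iff.1 c2).symm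
    obtain ⟨y, hy, z, hz, e2⟩ := mem_sup_of_normal_right.1 (hX.conj_mem a (mem_sup_left a1) g)
    rw [← e2, mul_mem_cancel_right (mem_centralizer_singleton_iff.2 (cM z hz m hm))] at h7
    rw [show y = 1 from mem_bot.1 (e ▸ mem_inf.2 ⟨hy, h7⟩), one_mul] at e2
    exact a2 (mem_bot.1 (hd ▸ mem_inf.2 ⟨a1, by
      have := Normal.conj_mem inferInstance _ (e2 ▸ hz) g⁻¹
      simpa [mul_assoc] using this⟩))
  obtain ⟨m, hm, hmin⟩ := Set.exists_min_image (M : Set G) (fun m => Nat.card ↥(P ⊓ centralizer {m})) (Set.toFinite _)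
    ⟨1, one_mem M⟩
  obtain ⟨R, hR⟩ : ∃ R, R = P ⊓ centralizer {m} := ⟨_, rfl⟩
  have r1 : R ≤ P := hR ▸ inf_le_left
  have r2 : m ∈ centralizer (R : Set G) := mem_centralizer_iff.2 fun r hr =>
    mem_centralizer_singleton_iff.1 (mem_inf.1 (hR ▸ hr)).2
  have r3 := (Coprime.fitting_decomposition (V := M) (A := R) le_normalizer_of_normal
    (hc.coprime_dvd_left (card_dvd_of_le r1))).1
  have r4 : ⁅M, R⁆ = ⊥ := eq_bot_iff.2 fun d hd => by
    have d1 := commutator_le_left M R hd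
    have d2 : P ⊓ centralizer {m * d} = R := eq_of_le_of_card_ge (fun x hx => hR ▸ mem_inf.2 ⟨hx.1, by
      have x1 : x ∈ centralizer (R : Set G) := mem_centralizer_iff.2 fun r hr => cP r (r1 hr) x hx.1
      have x2 : m⁻¹ * (x * m * x⁻¹) = d * (x * d * x⁻¹)⁻¹ := by
        rw [inv_mul_eq_iff_eq_mul, ← mul_assoc, eq_mul_inv_iff_mul_eq, conj_mul,
          mem_centralizer_singleton_iff.1 hx.2, mul_inv_cancel_right]
      have x3 : m⁻¹ * (x * m * x⁻¹) ∈ M ⊓ centralizer (R : Set G) ⊓ ⁅M, R⁆ := mem_inf.2 ⟨mem_inf.2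
        ⟨mul_mem (inv_mem hm) (Normal.conj_mem inferInstance _ hm x),
          mul_mem (inv_mem r2) (mul_mem (mul_mem x1 r2) (inv_mem x1))⟩, x2 ▸ mul_mem hd (inv_mem
        (conj_mem_of_mem_normalizer (Core.normalizer_inf_le_normalizer_commutator M R
          ⟨le_normalizer_of_normal (mem_top x), centralizer_le_normalizer _ x1⟩) hd))⟩
      rw [r3, mem_bot, inv_mul_eq_one, eq_mul_inv_iff_mul_eq] at x3
      exact mem_centralizer_singleton_iff.2 x3.symm⟩) (hR ▸ hmin _ (mul_mem hm d1))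
    exact r3 ▸ mem_inf.2 ⟨mem_inf.2 ⟨d1, (mul_mem_cancel_left r2).1 (mem_centralizer_iff.2 fun r hr =>
      mem_centralizer_singleton_iff.1 (mem_inf.1 (d2 ▸ hr : r ∈ P ⊓ centralizer {m * d})).2)⟩, hd⟩
  have r5 : P ≤ centralizer (M : Set G) := fun x hx => h.mem_normal' ((Core.dvd_card_of_isPGroup_of_ne_bot
    (hP.pgroup.to_le r1) (hR ▸ k1 m hm)).trans (card_dvd_of_le
      (le_centralizer_iff.1 (commutator_eq_bot_iff_le_centralizer.1 r4)))) (h1 x hx)
  exact ⟨normal_of_sylowIn (hP.of_le (K := P ⊔ M) le_sup_left le_top)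
    (sup_le le_normalizer ((le_centralizer_iff.1 r5).trans (centralizer_le_normalizer _))), h5⟩

theorem exists_avoid {Q : Subgroup G} (h1 : IsMulCommutative Q) (h2 : ∀ x ∈ Q, x ^ p = 1) {v w : G} (hv : v ∈ Q)
    (hw : w ∈ Q) (h3 : v ≠ 1) (h4 : w ∉ zpowers v) (j : ℕ) (hj : p ^ (j + 1) < Nat.card Q) :
    ∃ Y ≤ Q, Nat.card Y = p ^ (j + 1) ∧ v ∈ Y ∧ w ∉ Y := by
  induction j with
  | zero => exact ⟨_, zpowers_le.2 hv, by rw [Nat.card_zpowers, orderOf_eq_prime (h2 v hv) h3, zero_add, pow_one],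
      mem_zpowers v, h4⟩
  | succ j ih =>
    obtain ⟨Y, y1, y2, y3, y4⟩ := ih ((Nat.pow_le_pow_right hp.out.pos (by omega)).trans_lt hj)
    have k : ∀ u ∈ Q, u ∉ Y → Nat.card ↥(zpowers u ⊔ Y) = p ^ (j + 1 + 1) := fun u u1 u2 => by
      rw [card_zp_sup (h2 u u1) u2 fun y hy => conj_mem_of_mem_normalizer (le_normalizer_of_comm h1 y1 u1) hy, y2,
        pow_succ' _ (j + 1)]
    obtain ⟨u, u1, u2⟩ := SetLike.not_le_iff_exists.1 fun e : Q ≤ zpowers w ⊔ Y =>
      hj.not_ge (k w hw y4 ▸ card_le_of_le e)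
    have u3 : u ∉ Y := fun e => u2 (mem_sup_right e)
    refine ⟨_, sup_le (zpowers_le.2 u1) y1, k u u1 u3, mem_sup_right y3, fun e => u2 ?_⟩
    rw [eq_of_le_of_card_ge (sup_le (zpowers_le.2 e) le_sup_right) (by rw [k w hw y4, k u u1 u3])]
    exact mem_sup_left (mem_zpowers u)

theorem pm_of_sq {x v : G} (hv : v ^ p = 1) (h1 : x * v * x⁻¹ ∈ zpowers v) (h2 : x * (x * v * x⁻¹) * x⁻¹ = v) :
    x * v * x⁻¹ = v ∨ x * v * x⁻¹ = v⁻¹ := by
  obtain ⟨i, hi⟩ := mem_zpowers_iff.1 h1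
  by_cases h0 : v = 1
  · simp [h0]
  rw [← hi, ← conj_zpow, ← hi, ← zpow_mul, ← mul_inv_eq_one, ← zpow_sub_one, ← orderOf_dvd_iff_zpow_eq_one,
    orderOf_eq_prime hv h0, show i * i - 1 = (i - 1) * (i + 1) by ring] at h2
  rw [← hi, ← mul_inv_eq_one, ← zpow_sub_one, eq_inv_iff_mul_eq_one, ← zpow_add_one, ← orderOf_dvd_iff_zpow_eq_one,
    ← orderOf_dvd_iff_zpow_eq_one, orderOf_eq_prime hv h0]
  exact (Nat.prime_iff_prime_int.1 hp.out).dvd_or_dvd h2

/-- an element fixing all lines and a vector fixes everything -/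
theorem cent_of_lines {Q : Subgroup G} (h2 : ∀ x ∈ Q, x ^ p = 1) (h1 : IsMulCommutative Q) {x v : G} (hv : v ∈ Q)
    (h3 : v ≠ 1) (h4 : x * v * x⁻¹ = v) (h5 : ∀ w ∈ Q, x * w * x⁻¹ ∈ zpowers w) : x ∈ centralizer (Q : Set G) := by
  refine mem_centralizer_iff.2 fun w hw => ?_
  obtain ⟨j, hj⟩ := mem_zpowers_iff.1 (h5 _ (mul_mem hv hw))
  have hc : Commute v w := Core.isMulCommutative_iff_forall.1 h1 v hv w hw
  rw [← conj_mul, h4, hc.mul_zpow] at hj
  have h6 : x ∈ centralizer {v} := mem_centralizer_singleton_iff.2 (mul_inv_eq_iff_eq_mul.1 h4)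
  by_cases h7 : v⁻¹ * v ^ j = 1
  · have h8 : w ^ (j - 1) = 1 := by
      rw [← zpow_neg_one, ← zpow_add, ← orderOf_dvd_iff_zpow_eq_one, orderOf_eq_prime (h2 v hv) h3, add_comm] at h7
      exact orderOf_dvd_iff_zpow_eq_one.1 ((Int.natCast_dvd_natCast.2 (orderOf_dvd_of_pow_eq_one (h2 w hw))).trans h7)
    rw [zpow_sub_one, mul_inv_eq_one] at h8
    rw [← inv_mul_eq_one.1 h7, h8, mul_right_inj, eq_mul_inv_iff_mul_eq] at hj
    exact hj
  · have h8 : v⁻¹ * v ^ j ∈ zpowers w := by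
      rw [show v⁻¹ * v ^ j = x * w * x⁻¹ * (w ^ j)⁻¹ by rw [inv_mul_eq_iff_eq_mul, ← mul_assoc, ← hj]; group]
      exact mul_mem (h5 w hw) (inv_mem (zpow_mem_zpowers w j))
    have h9 := zp_eq (orderOf_eq_prime (h2 v hv) h3) (mul_mem (inv_mem (mem_zpowers v)) (zpow_mem_zpowers v j)) h7
    by_cases h0 : w = 1
    · simp [h0]
    have := zp_eq (orderOf_eq_prime (h2 w hw) h0) h8 h7
    rw [← Core.centralizer_zpowers, ← h9, this, Core.centralizer_zpowers] at h6
    exact (mem_centralizer_singleton_iff.1 h6).symm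

omit hp in
theorem BG.normal_of_inv (h : BG G) {F P V : Subgroup G} [F.Normal] (f1 : IsMulCommutative F)
    {a b : G} (hq : QG P a b 0) [(P ⊔ F).Normal] (v1 : V ≤ F)
    (v2 : P ≤ normalizer (V : Set G)) (v3 : V ⊓ centralizer (P : Set G) = ⊥) : V.Normal := by
  rw [← Coprime.eq_of_forall_sylow_le V.normalCore_le fun p hp hd => ?_]
  · infer_instance
  have := Fact.mk hp
  obtain ⟨Q, q1⟩ := exists_isSylowIn p F
  have q2 := normal_of_sylowIn q1 (le_normalizer_of_comm f1 q1.le)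
  have q3 := q1.inf_of_le_normalizer (le_normalizer_of_comm f1 v1)
  rw [inf_eq_right.2 v1] at q3
  have q4 : IsMulCommutative Q := Core.isMulCommutative_of_le q1.le
  suffices (Q ⊓ V).Normal from ⟨_, normal_le_normalCore.2 inf_le_right, q3.not_dvd⟩
  rcases h.sylow q1.pgroup with h1 | h1 | ⟨-, c, d, m, h1⟩
  rotate_left
  · exact ⟨fun x hx g => Ree.eq_of_card_eq_of_isCyclic h1 ((cj_mono g inf_le_left).trans (cj_eq_of_normal g Q).le)
      inf_le_left (card_cj g _) ▸ conj_mem_cj.2 hx⟩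
  · exact absurd (Core.isMulCommutative_iff_forall.1 q4 _ h1.hb _ h1.ha) h1.not_comm
  by_contra h2
  obtain ⟨k, hk⟩ := IsPGroup.iff_card.1 q3.pgroup
  obtain ⟨k, rfl⟩ := Nat.exists_eq_add_one_of_ne_zero fun e : k = 0 => h2 (by
    rw [card_eq_one.1 (hk.trans (by rw [e, pow_zero]))]; infer_instance)
  have h3 : ∀ s ∈ P, ∀ v ∈ Q, s * v * s⁻¹ ∈ zpowers v := fun s hs v hv => by_contra fun h3 => by
    obtain ⟨Y, y1, y2, y3, y4⟩ := exists_avoid q4 h1 hv (q2.conj_mem v hv s) (fun e => h3 (by simp [e])) h3 k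
      (hk ▸ Core.card_lt_of_lt (lt_of_le_of_ne inf_le_left fun e => h2 (e.symm ▸ q2)))
    obtain ⟨g, rfl⟩ := h (Q ⊓ V) Y (Core.isMulCommutative_of_le inf_le_left) (Core.isMulCommutative_of_le y1)
      (hk.trans y2.symm)
    refine y4 (conj_mem_of_mem_normalizer ?_ y3)
    rw [← cj_normalizer]
    exact cj_mono g (show P ⊔ F ≤ _ from sup_le (fun x hx => inf_normalizer_le_normalizer_inf
      ⟨le_normalizer_of_normal (mem_top x), v2 hx⟩) (le_normalizer_of_comm f1 (inf_le_right.trans v1)))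
      ((cj_eq_of_normal g _).ge (mem_sup_left hs))
  obtain ⟨v, ⟨h4, h5⟩, h6⟩ := Core.exists_mem_orderOf_eq_of_dvd_card hp (hk ▸ dvd_pow_self p k.succ_ne_zero)
  have h7 : v ≠ 1 := fun e => hp.one_lt.ne (by rw [← h6, e, orderOf_one])
  obtain ⟨i, hi⟩ := mem_zpowers_iff.1 (h3 a hq.ha v h4)
  obtain ⟨j, hj⟩ := mem_zpowers_iff.1 (h3 b hq.hb v h4)
  have h8 : a * (a * v * a⁻¹) * a⁻¹ = v := by
    have e1 : b * (a * v * a⁻¹) * b⁻¹ = a * (b * v * b⁻¹) * a⁻¹ := by
      rw [← hi, ← hj, ← conj_zpow, ← conj_zpow, ← hi, ← hj, ← zpow_mul, ← zpow_mul, mul_comm]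
    have e2 : a * b = b * a⁻¹ :=
      calc _ = (b * a * b⁻¹)⁻¹ * b := by rw [hq.inv, inv_inv]
        _ = _ := by group
    have e3 : b * (a * v * a⁻¹) * b⁻¹ = b * (a⁻¹ * v * a) * b⁻¹ :=
      calc _ = a * b * v * (a * b)⁻¹ := by rw [e1]; group
        _ = _ := by rw [e2]; group
    rw [mul_left_cancel (mul_right_cancel e3)]; group
  have h9 : b * (b * v * b⁻¹) * b⁻¹ = v :=
    calc _ = b ^ 2 * v * (b ^ 2)⁻¹ := by rw [pow_two]; group
      _ = a * (a * v * a⁻¹) * a⁻¹ := by rw [hq.sq, zero_add, pow_one, pow_two]; group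
      _ = _ := h8
  have key : ∀ x ∈ P, orderOf x = 4 → x * v * x⁻¹ ≠ v := fun x x1 x2 x3 => by
    have c1 := cent_of_lines h1 q4 h4 h7 x3 (h3 x x1)
    have c2 := h.mem_normal c1 (x2.trans (hq.ord 0).symm)
    have c3 := h.mem_normal c1 (x2.trans hq.oa.symm)
    rw [zpow_zero, one_mul] at c2
    refine h7 (mem_bot.1 (v3 ▸ mem_inf.2 ⟨h5, mem_centralizer_iff.2 fun y hy => (mem_centralizer_iff.1 ?_ v h4).symm⟩))
    obtain ⟨j, rfl | rfl⟩ := hq.mem y hy
    exacts [zpow_mem c3 j, mul_mem (zpow_mem c3 j) c2]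
  have k1 := (pm_of_sq (h1 v h4) (h3 a hq.ha v h4) h8).resolve_left (key a hq.ha hq.oa)
  have k2 := (pm_of_sq (h1 v h4) (h3 b hq.hb v h4) h9).resolve_left (key b hq.hb (by simpa using hq.ord 0))
  refine key (a * b) (mul_mem hq.ha hq.hb) (by simpa using hq.ord 1) ?_
  calc _ = a * (b * v * b⁻¹) * a⁻¹ := by group
    _ = (a * v * a⁻¹)⁻¹ := by rw [k2]; group
    _ = _ := by rw [k1, inv_inv]

omit hp in
theorem QG.sub {P H K : Subgroup G} {a b : G} (hq : QG P a b 0) (h1 : H ≤ P) (h2 : K ≤ P) (e : Nat.card H = Nat.card K)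
    (hne : H ≠ K) : ∃ x ∈ P, ∃ y ∈ P, orderOf x = 4 ∧ orderOf y = 4 ∧ H = zpowers x ∧ K = zpowers y ∧ H ⊔ K = P := by
  have := Fact.mk Nat.prime_two
  have h3 : orderOf (a ^ 2) = 2 := by rw [orderOf_pow' _ two_ne_zero, hq.oa]; rfl
  have h4 : ∀ x ∈ P, x ∉ zpowers (a ^ 2) → orderOf x = 4 := fun x x1 x2 => by
    obtain ⟨i, rfl | rfl⟩ := hq.mem x x1
    · obtain ⟨j, rfl | rfl⟩ := Int.even_or_odd' i
      · exact absurd ⟨j, by simp [zpow_mul]⟩ x2
      refine orderOf_eq_prime_pow (p := 2) (n := 1) ?_ ?_ <;>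
        rw [← zpow_natCast, ← zpow_mul, ← orderOf_dvd_iff_zpow_eq_one, hq.oa] <;> norm_num <;> omega
    · exact hq.ord i
  have h5 : ∀ H K : Subgroup G, K ≤ P → Nat.card H = Nat.card K → H ≤ zpowers (a ^ 2) → K ≤ zpowers (a ^ 2) :=
    fun H K h2 e h x hx => by_contra fun h5 => by
      have k1 := card_le_of_le (zpowers_le.2 hx)
      have k2 := card_le_of_le h
      rw [Nat.card_zpowers, h4 x (h2 hx) h5] at k1
      rw [Nat.card_zpowers, h3] at k2
      omega
  have h6 : ¬ H ≤ zpowers (a ^ 2) := fun h => hne (Ree.eq_of_card_eq_of_isCyclic inferInstance h (h5 H K h2 e h) e)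
  obtain ⟨x, x1, x2⟩ := SetLike.not_le_iff_exists.1 h6
  obtain ⟨y, y1, y2⟩ := SetLike.not_le_iff_exists.1 fun h => h6 (h5 K H h1 e.symm h)
  have h7 : ∀ H ≤ P, H = P ∨ Nat.card H ≤ 4 := fun H h => or_iff_not_imp_left.2 fun h7 => by
    have k1 := Core.card_lt_of_lt (lt_of_le_of_ne h h7)
    obtain ⟨c, k2⟩ := card_dvd_of_le h
    rw [hq.card] at k1 k2
    rcases c with _ | _ | c
    · omega
    · omega
    · rw [mul_add, mul_add] at k2; omega
  have h8 : Nat.card H ≤ 4 := (h7 H h1).resolve_left fun h => hne (h.trans (eq_of_le_of_card_ge h2 (by rw [← e, h])).symm)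
  have e1 := eq_of_le_of_card_ge (zpowers_le.2 x1) (by rwa [Nat.card_zpowers, h4 x (h1 x1) x2])
  refine ⟨x, h1 x1, y, h2 y1, h4 x (h1 x1) x2, h4 y (h2 y1) y2, e1.symm,
    (eq_of_le_of_card_ge (zpowers_le.2 y1) (by rwa [Nat.card_zpowers, h4 y (h2 y1) y2, ← e])).symm,
    (h7 _ (sup_le h1 h2)).resolve_right fun h => hne (eq_of_le_of_card_ge (sup_eq_left.1 (eq_of_le_of_card_ge
      le_sup_left (by rwa [← e1, Nat.card_zpowers, h4 x (h1 x1) x2, e1])).symm) e.le).symm⟩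

omit hp in
theorem BG.cg [Group.IsSolvable G] (h : BG G) : CG G := by
  obtain ⟨F, ⟨_, f1, f2⟩, hmax⟩ := Set.Finite.exists_maximal (Set.toFinite
    {F : Subgroup G | F.Normal ∧ IsMulCommutative F ∧ (Nat.card F).Coprime F.index})
    ⟨⊥, inferInstance, inferInstance, by simp⟩
  have hf := QuotientGroup.mk'_surjective F
  have hk := QuotientGroup.ker_mk' F
  have h1 : ∀ p : ℕ, p.Prime → CP p (G ⧸ F) ∨ p = 2 ∧ ∃ P a b m, IsSylowIn 2 P ⊤ ∧ QG P a b m := fun p hp => by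
    have := Fact.mk hp
    obtain ⟨P, hP⟩ := exists_isSylowIn p (⊤ : Subgroup G)
    by_cases h1 : IsCyclic P
    · exact .inl ((CP.of_sylow hP h1).of_surjective hf)
    rcases h.sylow hP.pgroup with h2 | h2 | ⟨rfl, a, b, m, h2⟩
    rotate_left
    · exact absurd h2 h1
    · exact .inr ⟨rfl, P, a, b, m, hP, h2⟩
    refine .inl (.of_not_dvd fun h3 => ?_)
    obtain ⟨_, h4⟩ := BG.normal_sylow _ G rfl h P hP h2 h1
    have h5 : ¬ p ∣ P.index := by simpa using hP.not_dvd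
    have h6 : (Nat.card P).Coprime (Nat.card F) := Core.isPGroup_coprime_card hP.pgroup
      (hp.coprime_iff_not_dvd.2 fun e => hp.one_lt.ne' (Nat.eq_one_of_dvd_coprimes f2 e h3)).symm
    refine h5 (h3.trans (index_dvd_of_le (le_sup_left.trans (hmax (y := P ⊔ F) ⟨inferInstance,
      Core.isMulCommutative_sup (Core.le_centralizer_of_normal_of_disjoint (Core.inf_eq_bot_of_coprime_card h6)),
      Nat.Coprime.coprime_dvd_left (Core.card_sup_dvd_of_normal P F) (.mul_left ?_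
        (f2.coprime_dvd_right (index_dvd_of_le le_sup_right)))⟩ le_sup_right))))
    exact (Core.isPGroup_coprime_card hP.pgroup (hp.coprime_iff_not_dvd.2 h5).symm).coprime_dvd_right
      (index_dvd_of_le le_sup_left)
  refine .of_hall (hk.symm ▸ f1) (hk.symm ▸ f2) (fun U W u w => h U W (Core.isMulCommutative_of_le (hk ▸ u))
    (Core.isMulCommutative_of_le (hk ▸ w))) fun U u => cg_of_dp 2 _ _ rfl (fun p hp => ?_) fun p hp e => ?_
  swap
  · have := Fact.mk hp
    exact ((h1 p hp).resolve_right fun h => e h.1).subgroup _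
  have := Fact.mk hp
  rw [hk] at u
  rcases h1 p hp with h2 | ⟨rfl, P, a, b, m, hP, hq⟩
  · exact (h2.subgroup _).dp
  have h2 : (Nat.card P).Coprime (Nat.card F) := Core.isPGroup_coprime_card hP.pgroup
    (hp.coprime_iff_not_dvd.2 fun e => ?_).symm
  swap
  · have h2 : P ≤ F := Core.le_of_coprime_card_index
      (Core.isPGroup_coprime_card hP.pgroup (f2.coprime_dvd_left e).symm)
    exact hq.not_comm (Core.isMulCommutative_iff_forall.1 f1 _ (h2 hq.hb) _ (h2 hq.ha))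
  have h3 := Core.inf_eq_bot_of_coprime_card h2
  have hq' := hq.map (f := QuotientGroup.mk' F) (hk.symm ▸ h3)
  have hP' := IsSylowIn.map_top hf hP
  obtain ⟨h4, rfl⟩ := (h.of_surjective hf).quat (fun q q1 q2 => ((h1 q q1).resolve_right fun h => q2 h.1) _
    (Core.isPGroup_pCore q _)) hP' hq'
  have h5 : (P ⊔ F).Normal := by
    have := h4.comap (QuotientGroup.mk' F)
    rwa [comap_map_eq, hk] at this
  intro H K hH hK e
  by_cases h6 : H = K
  · exact ⟨1, by rw [cj_one, h6]⟩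
  obtain ⟨_, ⟨x, x1, rfl⟩, _, ⟨y, y1, rfl⟩, x2, y2, x3, y3, h7⟩ := hq'.sub
    (hP'.le_of_normalizes (hH.map (Subgroup.subtype _)) le_top le_normalizer_of_normal)
    (hP'.le_of_normalizes (hK.map (Subgroup.subtype _)) le_top le_normalizer_of_normal)
    (by rw [card_subtype, card_subtype, e]) fun e => h6 (map_injective (subtype_injective _) e)
  have h8 : P ≤ normalizer (U : Set G) := by
    have := map_le_iff_le_comap.1 (h7.ge.trans (sup_le (map_subtype_le H) (map_subtype_le K)))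
    rwa [comap_map_eq, hk, sup_eq_left.2 (le_normalizer_of_comm f1 u)] at this
  have := Core.isMulCommutative_of_le u
  obtain ⟨d1, d2⟩ := Coprime.fitting_decomposition h8 (h2.coprime_dvd_right (card_dvd_of_le u))
  have d3 := Coprime.commutator_le_of_le_normalizer h8
  have d4 := h.normal_of_inv f1 hq (d3.trans u) (normalizer_commutator_ge_right U P)
    (eq_bot_iff.2 fun z hz => d1 ▸ mem_inf.2 ⟨mem_inf.2 ⟨d3 hz.1, hz.2⟩, hz.1⟩)
  obtain ⟨E, hE⟩ : ∃ E, E = U ⊓ centralizer (P : Set G) := ⟨_, rfl⟩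
  rw [← hE] at d2
  have e1 : E ≤ F := (hE ▸ inf_le_left).trans u
  have := Core.isMulCommutative_of_le e1
  have key : ∀ x ∈ P, orderOf (QuotientGroup.mk' F x) = 4 → IsMulCommutative ↥(E ⊔ zpowers x) ∧
      Nat.card ↥(E ⊔ zpowers x) = Nat.card E * 4 ∧ (E ⊔ zpowers x) ⊓ F = E ∧
      (E ⊔ zpowers x).map (QuotientGroup.mk' F) = zpowers (QuotientGroup.mk' F x) := fun x x1 x2 => by
    have k1 : E ≤ centralizer (zpowers x : Set G) := (hE ▸ inf_le_right).trans (centralizer_le (zpowers_le.2 x1))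
    have k2 : (E ⊔ zpowers x) ⊓ F = E := by
      rw [Core.sup_inf_assoc_of_le_normalizer e1 (k1.trans (centralizer_le_normalizer _)),
        eq_bot_iff.2 ((inf_le_inf_right F (zpowers_le.2 x1)).trans h3.le), sup_bot_eq]
    have k3 : (E ⊔ zpowers x).map (QuotientGroup.mk' F) = zpowers (QuotientGroup.mk' F x) := by
      rw [Subgroup.map_sup, (map_eq_bot_iff E).2 (hk.symm ▸ e1), bot_sup_eq, MonoidHom.map_zpowers]
    exact ⟨Core.isMulCommutative_sup k1, by
      rw [← Core.card_map_mk'_mul_card_inf _ F, k2, k3, Nat.card_zpowers, x2, mul_comm], k2, k3⟩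
  obtain ⟨a1, a2, a3, a4⟩ := key x x1 x2
  obtain ⟨b1, b2, b3, b4⟩ := key y y1 y2
  obtain ⟨g, hg⟩ := h _ _ a1 b1 (a2.trans b2.symm)
  refine ⟨⟨_, mem_map_of_mem _ (mem_normalizer_iff_cj.2 (show cj g U = U from ?_))⟩,
    map_injective (subtype_injective _) (by rw [map_cj, x3, y3, ← a4, ← b4, hg, map_cj]; rfl)⟩
  rw [← d2, cj_sup, cj_eq_of_normal g ⁅U, P⁆, ← a3, cj_inf, ← hg, cj_eq_of_normal g F, b3, a3]

end CfsgLib.WCor4
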