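import Mathlib
import Cfsg.Agent.Lib.WCor4.Aff
import Cfsg.Agent.Lib.WCor4.Bg2
import Cfsg.Agent.Lib.Transfer.Frobenius
import Cfsg.Agent.Lib.Perm.ZassBasic

/-! Solvable linear groups transitive on the subspaces of each dimension. -/

set_option autoImplicit false

namespace CfsgLib.WCor4

open Subgroup Cfsg CfsgLib.Tech
open scoped IsMulCommutative

theorem Tr.even {F : Type*} [Field F] [Finite F] {p : ℕ} [hp : Fact p.Prime] [CharP F p] {Γ : Subgroup (F ≃+* F)}
    (h : Tr p Γ) {k : ℕ} (hF : Nat.card F = p ^ (2 * k)) : k ≤ 1 := by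
  have h1 := hp.out.two_le
  obtain ⟨g, hg⟩ := IsCyclic.exists_ofOrder_eq_natCard (α := Fˣ)
  rw [Nat.card_units, hF] at hg
  have h2 : p ^ 2 - 1 ∣ orderOf g := by rw [hg, pow_mul]; exact Nat.sub_one_dvd_pow_sub_one _ k
  have hω := orderOf_pow_orderOf_div (orderOf_pos g).ne' h2
  generalize g ^ (orderOf g / (p ^ 2 - 1)) = ω at hω
  have h3 : p ^ 2 = p ^ 2 - 1 + 1 := (Nat.sub_add_cancel (Nat.one_le_pow _ _ (by omega))).symm
  have h8 : ∀ i : ZMod p, (i.cast : F) ^ p = i.cast := fun i =>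
    (map_pow (ZMod.castHom (dvd_refl p) F) i p).symm.trans (by rw [ZMod.pow_card]; rfl)
  have h6 : ∀ i : ZMod p, (i.cast : F) ≠ ω := fun i e => by
    have := h8 i
    rw [e, ← Nat.sub_add_cancel (show 1 ≤ p by omega), pow_succ, mul_eq_right₀ ω.ne_zero, ← Units.val_pow_eq_pow_val,
      Units.val_eq_one, ← orderOf_dvd_iff_pow_eq_one, hω] at this
    have := Nat.le_of_dvd (by omega) this
    have : 2 * p ≤ p ^ 2 := by nlinarith
    omega
  have h7 : (ω : F) ^ p ^ 2 = ω := by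
    rw [h3, pow_succ, ← Units.val_pow_eq_pow_val, ← hω, pow_orderOf_eq_one]; simp
  replace h8 : ∀ i : ZMod p, (i.cast : F) ^ p ^ 2 = i.cast := fun i => by rw [pow_two, pow_mul, h8, h8]
  have h9 : ∀ b : F, b ^ p ^ 2 = b := fun b => by
    obtain ⟨σ, -, o, i, j, rfl⟩ := h.surj h6 b
    rw [← map_pow, div_pow, add_pow_char_pow, mul_pow, h8, h8, h7]
    cases o
    · simp
    · simp only [Option.elim]; rw [add_pow_char_pow, h8, h7]
  have := Nat.le_of_dvd (by nlinarith) (orderOf_dvd_of_pow_eq_one (x := g) (n := p ^ 2 - 1) (Units.ext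
    (mul_left_cancel₀ g.ne_zero (by simpa [← pow_succ', ← h3] using h9 g))))
  have h4 := Nat.one_le_pow (2 * k) p (by omega)
  have := (Nat.pow_le_pow_iff_right (by omega : 1 < p)).1 (show p ^ (2 * k) ≤ p ^ 2 by omega)
  omega

theorem thirteen {G : Type*} [Group G] [Finite G] {M : Subgroup G} [M.Normal] (h1 : IsMulCommutative M)
    (h2 : ∀ x ∈ M, x ^ 3 = 1) (h3 : Nat.card M = 3 ^ 4)
    (h : ∀ A ≤ M, ∀ B ≤ M, Nat.card A = Nat.card B → ∃ g : G, B = cj g A) : 13 ∣ Nat.card G := by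
  classical
  have := Fintype.ofFinite G
  have := Fact.mk Nat.prime_three
  let fs : Subgroup G → Finset G := fun U => (U : Set G).toFinset
  have hfs : ∀ U : Subgroup G, (fs U).card = Nat.card U := fun U => by simp [fs]
  let X : Subgroup G → Finset (Σ _ : G, G) := fun U => ((fs U).erase 1).sigma fun v => fs U \ fs (zpowers v)
  have hX : ∀ (U : Subgroup G) x, x ∈ X U ↔ (x.1 ≠ 1 ∧ x.1 ∈ U) ∧ x.2 ∈ U ∧ x.2 ∉ zpowers x.1 := fun U x => by
    simp [X, fs]
  have cX : ∀ U ≤ M, (X U).card = (Nat.card U - 1) * (Nat.card U - 3) := fun U hU => by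
    rw [Finset.card_sigma, Finset.sum_const_nat (m := Nat.card U - 3) fun v hv => ?_, Finset.card_erase_of_mem
      (by simp [fs]), hfs]
    simp only [fs, Finset.mem_erase, Set.mem_toFinset] at hv
    rw [Finset.card_sdiff_of_subset (Set.toFinset_mono (zpowers_le.2 hv.2)), hfs, hfs, Nat.card_zpowers,
      orderOf_eq_prime (h2 v (hU hv.2)) hv.1]
  obtain ⟨W, hW⟩ := Sylow.exists_subgroup_card_pow_prime 3 (n := 2) (G := M) (by rw [h3]; norm_num)
  have w1 : W.map M.subtype ≤ M := map_subtype_le W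
  rw [← card_subtype] at hW
  generalize W.map M.subtype = W at hW w1
  have w2 : ∀ g, cj g W ≤ M := fun g => (cj_mono g w1).trans (cj_eq_of_normal g M).le
  have key := Finset.card_mul_eq_card_mul (s := Finset.univ) (t := X M) (m := 48)
    (n := (fs (normalizer (W : Set G))).card) (fun g x => x.1 ∈ cj g W ∧ x.2 ∈ cj g W) (fun g _ => by
      rw [show (X M).bipartiteAbove _ g = X (cj g W) from Finset.ext fun x => by
        rw [Finset.mem_bipartiteAbove, hX, hX]
        exact ⟨fun h => ⟨⟨h.1.1.1, h.2.1⟩, h.2.2, h.1.2.2⟩, fun h => ⟨⟨⟨h.1.1, w2 g h.1.2⟩, w2 g h.2.1, h.2.2⟩,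
          h.1.2, h.2.1⟩⟩, cX _ (w2 g), card_cj, hW]
      rfl) fun x hx => by
      obtain ⟨⟨x1, x2⟩, x3, x4⟩ := (hX M x).1 hx
      have x5 : Nat.card ↥(zpowers x.2 ⊔ zpowers x.1) = 3 ^ 2 := by
        rw [card_zp_sup (h2 _ x3) x4 fun v hv => conj_mem_of_mem_normalizer
          (le_normalizer_of_comm h1 (zpowers_le.2 x2) x3) hv, Nat.card_zpowers, orderOf_eq_prime (h2 _ x2) x1]
        rfl
      obtain ⟨g, hg⟩ := h W w1 _ (sup_le (zpowers_le.2 x3) (zpowers_le.2 x2)) (hW.trans x5.symm)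
      refine Finset.card_equiv (Equiv.mulLeft g⁻¹) fun k => ?_
      simp only [Finset.mem_bipartiteBelow, Finset.mem_univ, true_and, fs, Set.mem_toFinset, SetLike.mem_coe,
        Equiv.coe_mulLeft, mem_normalizer_iff_cj, cj_mul]
      refine ⟨fun e => ?_, fun e => ?_⟩
      · rw [← eq_of_le_of_card_ge (sup_le (zpowers_le.2 e.2) (zpowers_le.2 e.1)) (by rw [card_cj, hW, x5]), hg, cj_inv_cj]
      · rw [← cj_cj_inv g (cj k W), e, ← hg]
        exact ⟨mem_sup_right (mem_zpowers _), mem_sup_left (mem_zpowers _)⟩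
  rw [cX M le_rfl, h3, Finset.card_univ, ← Nat.card_eq_fintype_card] at key
  omega

theorem no_exc {V Γ : Type*} [AddCommGroup V] [Finite V] [Group Γ] [Finite Γ] [DistribMulAction Γ V] [FaithfulSMul Γ V]
    (he : ∀ v : V, 3 • v = 0) (hV : Nat.card V = 3 ^ 4) (h1 : ∀ v w : V, v ≠ 0 → w ≠ 0 → ∃ g : Γ, g • v = w)
    {E : Subgroup Γ} [E.Normal] (a3 : Nat.card E = 2 ^ 5) {u : Γ} (u1 : u ≠ 1) (u2 : u ^ 13 ^ 1 = 1) : False := by
  have : Fact (Nat.Prime 13) := ⟨by norm_num⟩
  have u3 : E ≤ centralizer {u} := by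
    have k1 := Transfer.card_modEq_card_inf_centralizer (Q := E) (le_normalizer_of_normal (mem_top u)) ⟨1, u2⟩
    have k2 := card_dvd_of_le (inf_le_left : E ⊓ centralizer {u} ≤ E)
    refine inf_eq_left.1 (eq_of_le_of_card_ge inf_le_left ?_)
    rw [a3] at k1 k2 ⊢
    obtain ⟨c, k3, k4⟩ := (Nat.dvd_prime_pow Nat.prime_two).1 k2
    rw [k4] at k1 ⊢
    interval_cases c <;> first | rfl | exact absurd k1 (by decide)
  let T : AddSubgroup V := (DistribSMul.toAddMonoidHom V u).eqLocus (.id V)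
  have u4 : Nat.card T = 3 := by
    have k1 : Nat.card V ≡ Nat.card T [MOD 13] := Perm.card_modEq_card_fixedBy u2
    obtain ⟨c, k2, k3⟩ := (Nat.dvd_prime_pow Nat.prime_three).1 (hV ▸ T.card_addSubgroup_dvd_card)
    have k4 : c ≠ 4 := fun e => by
      exact u1 (eq_of_smul_eq_smul (α := V) fun v => by
        rw [one_smul]
        exact (AddSubgroup.eq_top_of_card_eq T (by rw [k3, e, hV])).ge (AddSubgroup.mem_top v))
    rw [hV, k3] at k1
    rw [k3]
    interval_cases c <;> first | rfl | exact absurd rfl k4 | exact absurd k1 (by decide)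
  have : Nontrivial T := Finite.one_lt_card_iff_nontrivial.1 (by omega)
  obtain ⟨⟨v, hv⟩, v1⟩ := exists_ne (0 : T)
  replace v1 : v ≠ 0 := fun e => v1 (Subtype.ext e)
  have two : ∀ w : V, w + w = 0 → w = 0 := fun w e => by
    have := he w
    rwa [succ_nsmul, two_nsmul, e, zero_add] at this
  have u5 : ∀ w ∈ T, w ≠ 0 → w = v ∨ w = -v := fun w hw w1 => by_contra fun e => by
    classical
    have := Fintype.ofFinite T
    have k := Finset.card_le_univ ({0, ⟨v, hv⟩, -⟨v, hv⟩, ⟨w, hw⟩} : Finset T)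
    rw [not_or] at e
    rw [← Nat.card_eq_fintype_card, u4, Finset.card_insert_of_notMem (by simp [Subtype.ext_iff, v1.symm, w1.symm, v1]),
      Finset.card_insert_of_notMem (by
        simp only [Finset.mem_insert, Finset.mem_singleton, Subtype.ext_iff, not_or]
        exact ⟨fun h => v1 (two v (eq_neg_iff_add_eq_zero.1 h)), Ne.symm e.1⟩),
      Finset.card_pair (fun h => e.2 (congrArg Subtype.val h).symm)] at k
    omega
  have u6 : ∀ a ∈ E, ∀ w : V, a • w = w ∨ a • w = -w := fun a ha w => by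
    by_cases w1 : w = 0
    · simp [w1]
    obtain ⟨k, rfl⟩ := h1 v w v1 w1
    have k1 := Normal.conj_mem' inferInstance a ha k
    have k2 := u5 ((k⁻¹ * a * k) • v) (show u • (k⁻¹ * a * k) • v = (k⁻¹ * a * k) • v by
      rw [← mul_smul, ← mem_centralizer_singleton_iff.1 (u3 k1), mul_smul, show u • v = v from hv])
      fun e => v1 ((smul_eq_zero_iff_eq _).1 e)
    rwa [mul_smul, mul_smul, inv_smul_eq_iff, inv_smul_eq_iff, smul_neg] at k2
  have u7 : ∀ a ∈ E, a • v = v → a = 1 := fun a ha e => eq_of_smul_eq_smul fun w : V => by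
    rw [one_smul]
    refine (u6 a ha w).elim id fun k1 => ?_
    rcases u6 a ha (v + w) with k2 | k2 <;> rw [smul_add, e, k1] at k2
    · rw [k1, add_left_cancel k2]
    · exact absurd (two v (by rwa [neg_add, add_left_inj, eq_neg_iff_add_eq_zero] at k2)) v1
  have u8 : Function.Injective fun a : E => (⟨a.1 • v, by
      rcases u6 a a.2 v with h | h <;> rw [h]
      exacts [hv, neg_mem hv]⟩ : T) := fun a b e => Subtype.ext (inv_mul_eq_one.1 (u7 _ (mul_mem (inv_mem b.2) a.2)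
    (by rw [mul_smul, inv_smul_eq_iff]; exact congrArg Subtype.val e))).symm
  have := Nat.card_le_card_of_injective _ u8
  omega

theorem huppert_lines {p : ℕ} [hp : Fact p.Prime] {V H : Type*} [AddCommGroup V] [Finite V] [Group H] [Finite H]
    [Group.IsSolvable H] [DistribMulAction H V] [FaithfulSMul H V] (he : ∀ v : V, p • v = 0) {n : ℕ}
    (hV : Nat.card V = p ^ n) (hn : 3 ≤ n) (h13 : p = 3 → n = 4 → 13 ∣ Nat.card H)
    (htr : ∀ v w : V, v ≠ 0 → w ≠ 0 → ∃ (g : H) (k : ℕ), g • v = k • w) :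
    ∃ (F : Type) (_ : Field F) (_ : Fintype F) (e : V ≃+ F),
      ∀ g : H, ∃ (a : F) (σ : F ≃+* F), ∀ v : V, e (g • v) = a * σ (e v) := by
  obtain ⟨_⟩ : Nonempty (Module (ZMod p) V) := ⟨AddCommGroup.zmodModule he⟩
  have : SMulCommClass H (ZMod p) V := ⟨fun g c v => ZMod.map_smul (DistribSMul.toAddMonoidHom V g) c v⟩
  let Φ : H × (ZMod p)ˣ →* (V ≃ₗ[ZMod p] V) := (DistribMulAction.toModuleAut (ZMod p) V).noncommCoprod
    (DistribMulAction.toModuleAut (ZMod p) V) fun g c => LinearEquiv.ext fun v => smul_comm g (c : ZMod p) v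
  have hΦ : ∀ g c v, Φ (g, c) v = g • (c : ZMod p) • v := fun _ _ _ => rfl
  have := Group.isSolvable_of_surjective Φ.rangeRestrict_surjective
  have := Finite.of_surjective _ Φ.rangeRestrict_surjective
  have : Nontrivial V := Finite.one_lt_card_iff_nontrivial.1 (hV ▸ Nat.one_lt_pow (by omega) hp.out.one_lt)
  have h1 : ∀ v w : V, v ≠ 0 → w ≠ 0 → ∃ g : Φ.range, g • v = w := fun v w hv hw => by
    obtain ⟨g, k, e⟩ := htr v w hv hw
    rw [← Nat.cast_smul_eq_nsmul (ZMod p)] at e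
    have hk : (k : ZMod p) ≠ 0 := fun h => hv ((smul_eq_zero_iff_eq g).1 (by rw [e, h, zero_smul]))
    exact ⟨⟨_, (g, (Units.mk0 _ hk)⁻¹), rfl⟩, (hΦ _ _ _).trans (by rw [smul_comm, e, smul_smul]; simp [hk])⟩
  rcases Perm.huppert h1 hp.out hV with ⟨F, _, _, e, h2⟩ | ⟨A, E, _, -, a1, a2, a3, ⟨rfl, -⟩ | ⟨rfl, rfl⟩⟩
  · refine ⟨F, inferInstance, inferInstance, e, fun g => ?_⟩
    obtain ⟨a, σ, h3⟩ := h2 ⟨_, (g, 1), rfl⟩
    exact ⟨a, σ, fun v => .trans (congrArg e ((hΦ g 1 v).trans (by simp)).symm) (h3 v)⟩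
  · omega
  have : Fact (Nat.Prime 13) := ⟨by norm_num⟩
  rw [Nat.dvd_antisymm a2 a1] at a3
  obtain ⟨g, hg⟩ := exists_prime_orderOf_dvd_card' 13 (h13 rfl rfl)
  refine (no_exc he hV h1 a3 (u := ⟨_, (g, 1), rfl⟩) (fun e => ?_) ?_).elim
  · rw [eq_of_smul_eq_smul (α := V) (m₁ := g) (m₂ := 1) fun v => by
      simpa [hΦ] using DFunLike.congr_fun (congrArg Subtype.val e) v] at hg
    simp at hg
  · rw [pow_one, ← hg]
    exact Subtype.ext ((map_pow Φ _ _).symm.trans (by rw [Prod.pow_mk, pow_orderOf_eq_one, one_pow]; exact map_one Φ))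

theorem affine_emb {G : Type*} [Group G] [Finite G] [Group.IsSolvable G] {p : ℕ} [hp : Fact p.Prime] (N : Subgroup G)
    [hn : N.Normal] [IsMulCommutative N] {f : ℕ} (hN : Nat.card N = p ^ f) (hf : 3 ≤ f) (h2 : ∀ x ∈ N, x ^ p = 1)
    (ho : ¬ p ∣ N.index) (hC : centralizer (N : Set G) ≤ N)
    (h : ∀ A ≤ N, ∀ B ≤ N, Nat.card A = Nat.card B → ∃ g : G, B = cj g A) :
    ∃ (φ : G →* semiaffineGroup (GaloisField p f)) 
      (s : semiaffineGroup (GaloisField p f) →* (GaloisField p f ≃+* GaloisField p f)),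
      Function.Injective φ ∧ (∀ (u : semiaffineGroup (GaloisField p f)) (a : (GaloisField p f)ˣ) (b : GaloisField p f)
        (σ : GaloisField p f ≃+* GaloisField p f), (∀ x, u.1 x = a * σ x + b) → s u = σ) ∧
      Tr p (s.comp φ).range ∧ (p = 2 → p ^ f * (p ^ f - 1) ∣ Nat.card G) := by
  obtain ⟨H, hH⟩ := exists_right_complement'_of_coprime (N := N)
    (hN ▸ (hp.out.coprime_iff_not_dvd.2 ho).pow_left f)
  have hcH : Nat.card H = N.index := hH.symm.index_eq_card.symm
  have dec : ∀ g : G, ∃ (m : N) (k : H), g = m * k := fun g => by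
    obtain ⟨⟨m, k⟩, e⟩ := hH.2 g
    exact ⟨m, k, e.symm⟩
  have : Nontrivial N := Finite.one_lt_card_iff_nontrivial.1 (hN ▸ Nat.one_lt_pow (by omega) hp.out.one_lt)
  let c : H → N → N := fun k n => ⟨_, hn.conj_mem _ n.2 k⟩
  have hc : ∀ (m : N) (k : H) (n : N), (m : G) * k * n * ((m : G) * k)⁻¹ = c k n := fun m k n =>
    calc _ = ((m * c k n * m⁻¹ : N) : G) := by simp only [c, coe_mul, coe_inv]; group
      _ = _ := by rw [mul_inv_cancel_comm]
  have triv : ∀ k : H, (∀ n, c k n = n) → k = 1 := fun k hk => Subtype.ext (disjoint_def.1 hH.disjoint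
    (hC fun n hn => (mul_inv_eq_iff_eq_mul.1 (congrArg Subtype.val (hk ⟨n, hn⟩))).symm) k.2)
  let _ : DistribMulAction H (Additive N) :=
    { smul := fun g v => .ofMul (c g v.toMul)
      one_smul := fun v => congrArg Additive.ofMul (Subtype.ext (by simp [c]; rfl))
      mul_smul := fun g k v => congrArg Additive.ofMul (Subtype.ext (by
        change _ = (g : G) * (k * _ * (k : G)⁻¹) * (g : G)⁻¹; simp [c, mul_assoc]))
      smul_zero := fun g => congrArg Additive.ofMul (Subtype.ext (by simp [c]))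
      smul_add := fun g v w => congrArg Additive.ofMul (Subtype.ext (by
        change _ = (g : G) * _ * (g : G)⁻¹ * (g * _ * (g : G)⁻¹); simp [c, mul_assoc])) }
  have : FaithfulSMul H (Additive N) := ⟨fun {g k} e => (inv_mul_eq_one.1 (triv _ fun n =>
    ((mul_smul k⁻¹ g (Additive.ofMul n)).trans (by rw [e, inv_smul_smul]) :))).symm⟩
  have htr : ∀ v w : Additive N, v ≠ 0 → w ≠ 0 → ∃ (g : H) (j : ℕ), g • v = j • w := fun v w hv hw => by
    have o : ∀ v : Additive N, v ≠ 0 → orderOf (v.toMul : G) = p := fun v hv =>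
      orderOf_eq_prime (h2 _ v.toMul.2) fun e => hv (Subtype.ext e)
    obtain ⟨g, e⟩ := h (zpowers (v.toMul : G)) (zpowers_le.2 v.toMul.2) (zpowers (w.toMul : G)) (zpowers_le.2 w.toMul.2)
      (by rw [Nat.card_zpowers, o v hv, Nat.card_zpowers, o w hw])
    obtain ⟨m, k, rfl⟩ := dec g
    rw [cj_zpowers, hc] at e
    obtain ⟨j, hj⟩ := mem_powers_iff_mem_zpowers.2 (e.ge (mem_zpowers _))
    exact ⟨k, j, Subtype.ext hj.symm⟩
  have hp0 : ∀ v : Additive N, p • v = 0 := fun v => Subtype.ext (h2 _ v.toMul.2)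
  obtain ⟨F, _, _, e, he⟩ := huppert_lines hp0 (show Nat.card (Additive N) = p ^ f from hN) hf (by
    rintro rfl rfl
    have := thirteen inferInstance h2 hN h
    rw [← hH.card_mul_card, hN] at this
    exact Nat.Coprime.dvd_of_dvd_mul_left (by norm_num) this) htr
  have hK := GaloisField.card p f (by omega)
  have := Fintype.ofFinite (GaloisField p f)
  let ψ : F ≃+* GaloisField p f := FiniteField.ringEquivOfCardEq (by
    rw [← Nat.card_eq_fintype_card, ← Nat.card_eq_fintype_card, hK, ← Nat.card_congr e.toEquiv]; exact hN)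
  let E : N ≃ GaloisField p f := Additive.ofMul.trans (e.trans ψ.toAddEquiv).toEquiv
  have hE : ∀ m n, E (m * n) = E m + E n := fun m n => map_add (e.trans ψ.toAddEquiv) (.ofMul m) (.ofMul n)
  have hE1 : E 1 = 0 := map_zero (e.trans ψ.toAddEquiv)
  have hEc : ∀ k : H, ∃ (a : (GaloisField p f)ˣ) (σ : GaloisField p f ≃+* GaloisField p f),
      ∀ n, E (c k n) = a * σ (E n) := fun k => by
    obtain ⟨a, σ, h1⟩ := he k
    refine ⟨.mk0 (ψ a) fun h3 => ?_, ψ.symm.trans (σ.trans ψ), fun n => (congrArg ψ (h1 (.ofMul n))).trans (by simp [E])⟩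
    obtain ⟨v, hv⟩ := exists_ne (0 : Additive N)
    have := h1 v
    rw [(map_eq_zero ψ).1 h3, zero_mul, map_eq_zero_iff _ e.injective, smul_eq_zero_iff_eq] at this
    exact hv this
  let ε : N ≃ G ⧸ H := Equiv.ofBijective (fun n => ((n : G) : G ⧸ H)) ⟨fun m n e =>
    inv_mul_eq_one.1 (Subtype.ext (disjoint_def.1 hH.disjoint (m⁻¹ * n).2 (QuotientGroup.eq.1 e))), fun x => by
      obtain ⟨g, rfl⟩ := QuotientGroup.mk_surjective x
      obtain ⟨m, k, rfl⟩ := dec g
      exact ⟨m, (QuotientGroup.mk_mul_of_mem _ k.2).symm⟩⟩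
  let φ₀ := (ε.symm.trans E).permCongrHom.toMonoidHom.comp (MulAction.toPermHom G (G ⧸ H))
  have h0 : ∀ (m : N) (k : H) (n : N), φ₀ (m * k) (E n) = E (c k n) + E m := fun m k n => by
    rw [add_comm, ← hE]
    change E (ε.symm (((m : G) * k) • ε (E.symm (E n)))) = _
    rw [E.symm_apply_apply, EmbeddingLike.apply_eq_iff_eq, Equiv.symm_apply_eq]
    exact QuotientGroup.eq.2 (by simp [c, mul_assoc])
  let φ := φ₀.codRestrict (semiaffineGroup _) fun g => by
    obtain ⟨m, k, rfl⟩ := dec g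
    obtain ⟨a, σ, h1⟩ := hEc k
    exact ⟨a, E m, σ, E.surjective.forall.2 fun n => by rw [h0, h1]⟩
  have hφ : Function.Injective φ := (injective_iff_map_eq_one φ).2 fun g hg => by
    obtain ⟨m, k, rfl⟩ := dec g
    have h1 : ∀ n, E (c k n) + E m = E n := fun n => by rw [← h0, show φ₀ (m * k) = 1 from congrArg Subtype.val hg]; rfl
    have h3 : m = 1 := E.injective (by simpa [c, show (⟨1, _⟩ : N) = 1 from rfl, hE1] using h1 1)
    rw [h3, triv k fun n => E.injective (by simpa [h3, hE1] using h1 n)]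
    simp
  obtain ⟨s, hs⟩ := exists_sg (GaloisField p f)
  refine ⟨φ, s, hφ, hs, fun W W' hW hW' => ?_, ?_⟩
  swap
  · rintro rfl
    rw [← hH.card_mul_card, ← hN]
    refine Nat.mul_dvd_mul_left _ (Perm.card_sub_one_dvd (V := Additive N) fun v w hv hw => ?_)
    obtain ⟨g, j, e⟩ := htr v w hv hw
    obtain ⟨j, rfl | rfl⟩ := Nat.even_or_odd' j
    · exact absurd ((smul_eq_zero_iff_eq g).1 (by rw [e, mul_nsmul, hp0, nsmul_zero])) hv
    · exact ⟨g, by rw [e, succ_nsmul, mul_nsmul, hp0, nsmul_zero, zero_add]⟩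
  let ι : Multiplicative (GaloisField p f) →* G := MonoidHom.mk' (fun x => E.symm x.toAdd) fun x y => by
    rw [← coe_mul, Subtype.coe_inj, Equiv.symm_apply_eq, hE]; simp
  have hι : Function.Injective ι := fun x y e => E.symm.injective (Subtype.ext e)
  have h1 : ∀ V : AddSubgroup (GaloisField p f), Nat.card (V.toSubgroup.map ι) = Nat.card V := fun V =>
    card_map_of_injective hι
  obtain ⟨g, hg⟩ := h (W.toSubgroup.map ι) (by rintro _ ⟨x, -, rfl⟩; exact SetLike.coe_mem _) (W'.toSubgroup.map ι)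
    (by rintro _ ⟨x, -, rfl⟩; exact SetLike.coe_mem _) (by rw [h1, h1, hW, hW'])
  obtain ⟨m, k, rfl⟩ := dec g
  obtain ⟨a, σ, h3⟩ := hEc k
  refine ⟨a, σ, ⟨m * k, hs _ a (E m) σ (E.surjective.forall.2 fun n => (h0 m k n).trans (by rw [h3]))⟩,
    fun w' hw' => ?_⟩
  obtain ⟨_, ⟨w, hw, rfl⟩, e⟩ := (hg ▸ mem_map_of_mem ι (show Multiplicative.ofAdd w' ∈ W'.toSubgroup from hw') :)
  refine ⟨w.toAdd, hw, ?_⟩
  rw [← E.apply_symm_apply w.toAdd, ← h3, ← Equiv.symm_apply_eq]
  exact Subtype.ext (e.symm.trans (hc m k _))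

theorem cent_le' {G : Type*} [Group G] [Finite G] {p : ℕ} [hp : Fact p.Prime] (hO : pPrimeCore p G = ⊥) (S : Sylow p G)
    [(S : Subgroup G).Normal] [IsMulCommutative (S : Subgroup G)] : centralizer ((S : Subgroup G) : Set G) ≤ S := by
  let P := S.subtype (le_centralizer (S : Subgroup G))
  have hP : normalizer (P : Set (centralizer ((S : Subgroup G) : Set G))) ≤ centralizer (P : Set _) :=
    fun x _ y hy => Subtype.ext (x.2 y hy)
  have h1 := MonoidHom.ker_transferSylow_isComplement' P hP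
  have h2 : (MonoidHom.transferSylow P hP).ker = ⊥ := (map_eq_bot_iff_of_injective _ (subtype_injective _)).1
    (eq_bot_iff.2 (hO ▸ (map_mono (Core.le_pPrimeCore (hp.out.coprime_iff_not_dvd.2
      (MonoidHom.not_dvd_card_ker_transferSylow P hP)).symm)).trans (Core.map_pPrimeCore_le_of_normal _)))
  rw [h2, isComplement'_bot_left] at h1
  exact fun x hx => (h1.ge (mem_top ⟨x, hx⟩) :)

end CfsgLib.WCor4
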