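import Mathlib
import Cfsg.Agent.Lib.WCor4.Aff
import Cfsg.Agent.Lib.GW.Cor1
import Cfsg.Agent.S0228
import Cfsg.Agent.S0251

/-! Groups in which `p`-subgroups of the same order are conjugate. -/

set_option autoImplicit false

namespace CfsgLib.WCor4

open Subgroup Cfsg CfsgLib.Tech Matrix MatrixGroups SemidirectProduct

universe u

theorem DG.of_surjective {G Y : Type*} [Group G] [Finite G] [Group Y] (hD : DG G) {f : G →* Y}
    (hf : Function.Surjective f) : DG Y := by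
  intro p hp H K hH hK e
  have := Fact.mk hp
  have key : ∀ H : Subgroup Y, IsPGroup p H → ∃ P, IsSylowIn p P (H.comap f) ∧ P.map f = H := fun H hH => by
    obtain ⟨R⟩ : Nonempty (Sylow p (H.comap f)) := inferInstance
    refine ⟨_, .of_sylow_subgroup R, le_antisymm (map_le_iff_le_comap.2 (map_subtype_le _)) fun y hy => ?_⟩
    obtain ⟨x, hx, e⟩ : (⟨y, hy⟩ : H) ∈ (R : Subgroup _).map (f.subgroupComap H) :=
      ((R.mapSurjective (f.subgroupComap_surjective_of_surjective H hf)).is_maximal' (hH.to_subgroup ⊤) le_top).le trivial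
    exact ⟨x, ⟨x, hx, rfl⟩, congrArg Subtype.val e⟩
  obtain ⟨P, h1, rfl⟩ := key H hH
  obtain ⟨Q, h2, rfl⟩ := key K hK
  obtain ⟨g, rfl⟩ := hD p hp P Q h1.pgroup h2.pgroup (by
    rw [h1.card_eq_pow, h2.card_eq_pow, Core.card_comap_of_surjective hf, Core.card_comap_of_surjective hf, e])
  exact ⟨f g, by rw [Subgroup.map_map, cj, Subgroup.map_map]; congr 1; ext; simp⟩

variable {G : Type u} [Group G] [Finite G]

open GW.KP Dickson in
theorem DG.almost (hD : DG G) (L : Subgroup G) [L.Normal] (hC : centralizer (L : Set G) = ⊥) (ho : Odd L.index)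
    {F : Type} [Field F] [Fintype F] (e : L ≃* PSL(2, F)) {p f : ℕ} [hp : Fact p.Prime] (hF : Nat.card F = p ^ f) :
    ∃ Γ : Subgroup (F ≃+* F), Tr p Γ ∧ (f ∣ 6 → Nonempty (G ≃* PSL(2, F))) ∧
      (Even (Nat.card F) → Γ = ⊤ → Nonempty (G ≃* MulAut PSL(2, F))) := by
  have : Fact (Nat.Prime 3) := ⟨Nat.prime_three⟩
  obtain ⟨ρ, h1, h2⟩ := exists_rho L e
  obtain ⟨h2, h3⟩ := h2 hC
  have h4 : ∀ y, (ρ y).left ∈ (pslPGL F).range := fun y => by
    rcases Nat.even_or_odd (Nat.card F) with h | h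
    · exact index_eq_one.1 (index_psl_even h) ▸ mem_top _
    let K : Subgroup (PGam F) :=
      { carrier := {u | u.left ∈ (pslPGL F).range}
        one_mem' := one_mem (pslPGL F).range
        mul_mem' := fun ha hb => (left_mul_mem_iff h _ _).2 (iff_of_true ha hb)
        inv_mem' := fun ha => (left_inv_mem_iff _).2 ha }
    obtain ⟨k, hk⟩ := ho
    have h5 : ρ y ^ (2 * k + 1) ∈ K := by
      rw [← map_pow, h1 ⟨_, hk ▸ L.pow_index_mem y⟩]
      exact ⟨_, rfl⟩
    rwa [pow_succ, pow_mul, mul_mem_cancel_left (pow_mem (show ρ y ^ 2 ∈ K from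
      pow_two (ρ y) ▸ (left_mul_mem_iff h _ _).2 Iff.rfl) k)] at h5
  have h5 : ∀ y, ∃ l : L, ρ l = inl (ρ y).left := fun y => by
    obtain ⟨s, hs⟩ := h4 y
    exact ⟨e.symm s, by rw [h1, e.apply_symm_apply, hs]⟩
  have h6 : ∀ σ ∈ (rightHom.comp ρ).range, ∃ y, ρ y = inr σ := by
    rintro _ ⟨y, rfl⟩
    obtain ⟨l, hl⟩ := h5 y
    exact ⟨(l : G)⁻¹ * y, by rw [map_mul, map_inv, hl, inv_mul_eq_iff_eq_mul]; exact (inl_left_mul_inr_right _).symm⟩
  have h7 : L ≤ (rightHom.comp ρ).ker := fun l hl => by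
    rw [MonoidHom.mem_ker, MonoidHom.comp_apply, h1 ⟨l, hl⟩, rightHom_inl]
  refine ⟨_, hD.ab.tr h1 hp.out, fun hf => ?_, fun he hΓ => h3 fun u => ?_⟩
  · have h8 := (rightHom.comp ρ).range.card_subgroup_dvd_card
    rw [Sz.card_ringEquiv hF] at h8
    have h9 : Odd (Nat.card (rightHom.comp ρ).range) := ho.of_dvd_nat (index_ker (rightHom.comp ρ) ▸ index_dvd_of_le h7)
    have h10 : ¬ 3 ∣ Nat.card (rightHom.comp ρ).range := fun h => by
      obtain ⟨σ, hσ⟩ := exists_prime_orderOf_dvd_card' 3 h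
      obtain ⟨y, hy⟩ := h6 σ σ.2
      obtain ⟨l, hl⟩ := exists_prime_orderOf_dvd_card' (G := L) 3 (by
        refine Nat.Coprime.dvd_of_dvd_mul_left ((by norm_num : Nat.Coprime 3 2).coprime_dvd_right
          (Nat.gcd_dvd_left 2 (Fintype.card F - 1))) ?_
        rw [Nat.card_congr e.toEquiv, Classical.psl2_card_mul]
        obtain ⟨q, hq⟩ : ∃ q, Fintype.card F = q + 1 := ⟨_, (Nat.succ_pred_eq_of_pos Fintype.card_pos).symm⟩
        rw [hq, show (q + 1) ^ 2 - 1 = q * (q + 2) from Nat.sub_eq_of_eq_add (by ring)]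
        rcases (by omega : 3 ∣ q + 1 ∨ 3 ∣ q ∨ 3 ∣ q + 2) with h | h | h
        exacts [h.mul_right _, (h.mul_right _).mul_left _, (h.mul_left _).mul_left _])
      have := h7 (hD.mem_normal (p := 3) (by rw [orderOf_coe, hl]) l.2 (y := y) (h2 (by
        rw [map_pow, hy, ← map_pow, ← coe_pow, ← hσ, pow_orderOf_eq_one, map_one, coe_one, map_one])))
      rw [MonoidHom.mem_ker, MonoidHom.comp_apply, hy, rightHom_inr, OneMemClass.coe_eq_one] at this
      simp [this] at hσ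
    have h11 : Nat.card (rightHom.comp ρ).range = 1 := by
      have := Nat.le_of_dvd (by norm_num) (h8.trans hf)
      have := h8.trans hf
      have := Nat.odd_iff.1 h9
      interval_cases Nat.card (rightHom.comp ρ).range <;> omega
    have h12 : L = ⊤ := eq_top_iff.2 fun y _ => by
      obtain ⟨l, hl⟩ := h5 y
      rw [← eq_inl (card_eq_one.1 h11 ▸ ⟨y, rfl⟩ : (ρ y).right ∈ (⊥ : Subgroup _))] at hl
      exact h2 hl ▸ l.2
    exact ⟨(topEquiv.symm.trans (MulEquiv.subgroupCongr h12.symm)).trans e⟩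
  · obtain ⟨y, hy⟩ := h6 u.right (hΓ ▸ mem_top _)
    obtain ⟨s, hs⟩ : u.left ∈ (pslPGL F).range := index_eq_one.1 (index_psl_even he) ▸ mem_top _
    exact ⟨e.symm s * y, by rw [map_mul, h1, hy, e.apply_symm_apply, hs, inl_left_mul_inr_right]⟩

theorem exists_invol (hO : pPrimeCore 2 G = ⊥) {N T : Subgroup G} [N.Normal] (h1 : T ≤ N)
    (h2 : N ≤ normalizer (T : Set G)) (h3 : T ≠ ⊥) : ∃ t ∈ T, orderOf t = 2 :=
  Core.exists_mem_orderOf_eq_of_dvd_card Nat.prime_two (by_contra fun h => h3 (eq_bot_iff.2 (hO ▸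
    (Core.le_map_pPrimeCore h1 h2 ((Nat.prime_two.coprime_iff_not_dvd.2 h).symm)).trans
      (Core.map_pPrimeCore_le_of_normal N))))

theorem DG.simple (hD : DG G) (hO : pPrimeCore 2 G = ⊥) {N : Subgroup G} [N.Normal] (h0 : N ≠ ⊥)
    (hmin : ∀ M : Subgroup G, M.Normal → M ≤ N → M = ⊥ ∨ M = N) (hC : centralizer (N : Set G) = ⊥) :
    IsSimpleGroup N := by
  have : Fact (Nat.Prime 2) := ⟨Nat.prime_two⟩
  obtain ⟨T, h1, h2, h3, h4⟩ := Core.exists_minimal_normalized_le (A := N) le_normalizer h0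
  have h5 : ∀ g, cj g T = T ∨ cj g T ≤ centralizer (T : Set G) := fun g => by
    have n1 : N ≤ normalizer (cj g T : Set G) := by
      rw [← cj_normalizer, ← cj_eq_of_normal g N]; exact cj_mono g h1
    have n2 : cj g T ≤ N := cj_eq_of_normal g N ▸ cj_mono g h3
    rcases h4 (cj g T ⊓ T) ((le_inf n1 h1).trans inf_normalizer_le_normalizer_inf) inf_le_right with e | e
    · refine .inr (commutator_eq_bot_iff_le_centralizer.1 (eq_bot_iff.2 (e ▸ le_inf ?_ ?_)))
      exacts [le_normalizer_iff_commutator_le_left.1 (h3.trans n1), le_normalizer_iff_commutator_le_right.1 (n2.trans h1)]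
    · exact .inl (eq_of_le_of_card_ge (inf_eq_right.1 e) (card_cj g T).le).symm
  have h6 : T ⊓ centralizer (T : Set G) = ⊥ := by
    refine (h4 _ ((le_inf h1 (h1.trans (Core.normalizer_le_normalizer_centralizer _))).trans
      inf_normalizer_le_normalizer_inf) inf_le_left).resolve_right fun e => h2 (eq_bot_iff.2 (hC ▸ ?_))
    have h6 : T ≤ (centralizer (T : Set G)).normalCore := fun x hx g =>
      (h5 g).elim (fun e1 => (e.ge (e1 ▸ conj_mem_cj.2 hx)).2) fun e1 => e1 (conj_mem_cj.2 hx)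
    have := (hmin (N ⊓ (centralizer (T : Set G)).normalCore) inferInstance inf_le_left).resolve_left fun e1 =>
      h2 (eq_bot_iff.2 (e1 ▸ le_inf h3 h6))
    exact le_centralizer_iff.1 ((inf_eq_left.1 this).trans (normalCore_le _))
  obtain ⟨t, ht, h7⟩ := exists_invol hO h3 h1 h2
  have h8 : ∀ x ∈ T, x ∈ centralizer (T : Set G) → x = 1 := fun x a b => mem_bot.1 (h6 ▸ mem_inf.2 ⟨a, b⟩)
  have h9 : t ≠ 1 := fun e => by simp [e] at h7
  have hT : T = N := (hmin T (normalizer_eq_top_iff.1 (eq_top_iff.2 fun g _ => mem_normalizer_iff_cj.2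
    ((h5 g).resolve_right fun e => by
      have c := e (conj_mem_cj.2 ht)
      have tt : t ^ 2 = 1 := h7 ▸ pow_orderOf_eq_one t
      obtain ⟨k, hk⟩ := hD.exists_conj h7 (orderOf_eq_prime (x := t * (g * t * g⁻¹)) (by
        rw [Commute.mul_pow (c t ht), conj_pow, tt]; simp) fun e1 =>
          h9 (h8 t ht (eq_inv_of_mul_eq_one_left e1 ▸ inv_mem c)))
      have := zpowers_le.2 (conj_mem_cj.2 ht : _ ∈ cj k T) (hk ▸ mem_zpowers _)
      rcases h5 k with e1 | e1
      · exact h9 (conj_eq_one_iff.1 (h8 _ ((mul_mem_cancel_left ht).1 (e1 ▸ this)) c))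
      · exact h9 (h8 t ht ((mul_mem_cancel_right c).1 (e1 this)))))) h3).resolve_left h2
  have := (nontrivial_iff_ne_bot N).2 h0
  refine ⟨fun M hM => (h4 (M.map N.subtype) (fun n hn => mem_normalizer_of_forall ?_) (hT ▸ map_subtype_le M)).imp
    (fun e => (map_eq_bot_iff_of_injective _ N.subtype_injective).1 e) fun e => ?_⟩
  · rintro _ ⟨m, hm, rfl⟩
    exact ⟨_, hM.conj_mem m hm ⟨n, hn⟩, rfl⟩
  · exact map_injective N.subtype_injective (by rw [e, hT, ← MonoidHom.range_eq_map, range_subtype])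

theorem cent_le (hO : pPrimeCore 2 G = ⊥) (S : Sylow 2 G) [(S : Subgroup G).Normal]
    [IsMulCommutative (S : Subgroup G)] : centralizer ((S : Subgroup G) : Set G) ≤ S := by
  have : Fact (Nat.Prime 2) := ⟨Nat.prime_two⟩
  let P := S.subtype (le_centralizer (S : Subgroup G))
  have hP : normalizer (P : Set (centralizer ((S : Subgroup G) : Set G))) ≤ centralizer (P : Set _) :=
    fun x _ y hy => Subtype.ext (x.2 y hy)
  have h1 := MonoidHom.ker_transferSylow_isComplement' P hP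
  have h2 : (MonoidHom.transferSylow P hP).ker = ⊥ := (map_eq_bot_iff_of_injective _ (subtype_injective _)).1
    (eq_bot_iff.2 (hO ▸ (map_mono (Core.le_pPrimeCore (Nat.prime_two.coprime_iff_not_dvd.2
      (MonoidHom.not_dvd_card_ker_transferSylow P hP)).symm)).trans (Core.map_pPrimeCore_le_of_normal _)))
  rw [h2, isComplement'_bot_left] at h1
  exact fun x hx => (h1.ge (mem_top ⟨x, hx⟩) :)

/-- the groups of the list with Sylow 2-subgroups of order 4 -/
def L4 (G : Type*) [Group G] (P : (K : Type) → [Field K] → Type) [∀ K [Field K], Group (P K)] : Prop :=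
  ∃ (p : ℕ) (_ : Fact p.Prime), (p % 8 = 3 ∨ p % 8 = 5) ∧ (Nonempty (G ≃* P (ZMod p)) ∨ Nonempty (G ≃* P (GaloisField p 3)))

theorem DG.elem (hD : DG G) (hO : pPrimeCore 2 G = ⊥) (S : Sylow 2 G) (hS : ∀ x ∈ S, x ^ 2 = 1)
    (hc : ¬ IsCyclic S) : 8 ∣ Nat.card G ∧ (Nonempty (G ≃* affineGroup (GaloisField 2 3)) ∨
      Nonempty (G ≃* semiaffineGroup (GaloisField 2 3)) ∨ Nonempty (G ≃* semiaffineGroup (GaloisField 2 5)) ∨
      IsJ1 G ∨ Nonempty (G ≃* PSL(2, GaloisField 2 3)) ∨ Nonempty (G ≃* MulAut PSL(2, GaloisField 2 5))) ∨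
      L4 G fun K => PSL(2, K) := by
  have : Fact (Nat.Prime 2) := ⟨Nat.prime_two⟩
  have : Nontrivial G := by
    by_contra h
    have := not_nontrivial_iff_subsingleton.1 h
    exact hc inferInstance
  obtain ⟨N, _, h0, -, hmin⟩ := Core.exists_minimal_normal_le (K := (⊤ : Subgroup G)) top_ne_bot
  obtain ⟨t, ht, h2⟩ := exists_invol hO le_rfl le_normalizer h0
  have hSN : (S : Subgroup G) ≤ N := fun x hx => hD.mem_normal h2 ht (hS x hx)
  have ho : Odd N.index := (Nat.odd_iff.2 (Nat.two_dvd_ne_zero.1 S.not_dvd_index)).of_dvd_nat (index_dvd_of_le hSN)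
  have gf : ∀ (p f : ℕ) [Fact p.Prime] {F : Type} [Field F] [Fintype F], f ≠ 0 → Fintype.card F = p ^ f →
      Nonempty (PSL(2, F) ≃* PSL(2, GaloisField p f)) := fun p f _ F _ _ h1 h2 => by
    have := Fintype.ofFinite (GaloisField p f)
    exact CIT.App.nonempty_psl_equiv 2 (by rw [h2, ← GaloisField.card p f h1, Nat.card_eq_fintype_card])
  by_cases hN : IsMulCommutative N
  · have h3 := (hmin _ (Core.omegaOne_normal 2 N) (Core.omegaOne_le 2 N)).resolve_left fun e =>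
      Core.omegaOne_ne_bot_of_dvd_card Nat.prime_two (h2 ▸ N.orderOf_dvd_natCard ht) e
    have h4 : ∀ x ∈ N, x ^ 2 = 1 := fun x hx => Core.pow_eq_one_of_mem_omegaOne (h3.ge hx)
    obtain rfl : N = S := S.is_maximal' (Core.isPGroup_of_forall_pow_eq_one h4) hSN
    obtain ⟨f, hf⟩ := IsPGroup.iff_card.1 S.isPGroup'
    rcases hD.ab.affine S hf (by
      by_contra h
      exact hc (isCyclic_of_card_dvd_prime (p := 2) (hf ▸ (pow_dvd_pow 2 (by omega)).trans (pow_one 2).dvd)))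
      h4 ho (cent_le hO S) with h5 | ⟨h5, h6⟩
    · have : Fact (Nat.Prime 3) := ⟨Nat.prime_three⟩
      obtain ⟨e⟩ := Agent.S0228.result h5 fun z hz hc' => hc (by
        have := Core.normal_of_le_center (zpowers_le.2 hc')
        rw [show (S : Subgroup G) = zpowers z from le_antisymm (fun x hx => hD.mem_normal hz (mem_zpowers z) (hS x hx))
          (zpowers_le.2 (hD.mem_normal h2 ht (hz ▸ pow_orderOf_eq_one z)))]
        infer_instance)
      obtain ⟨e'⟩ := Agent.S0251.result (ZMod.card 3)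
      exact .inr ⟨3, this, .inl rfl, .inl ⟨e.trans e'.symm⟩⟩
    · exact .inl ⟨((pow_dvd_pow 2 h5).trans hf.symm.dvd).trans (card_subgroup_dvd_card _),
        h6.imp_right (Or.imp_right .inl)⟩
  have hC : centralizer (N : Set G) = ⊥ := by_contra fun h => by
    obtain ⟨s, hs, h3⟩ := exists_invol hO le_rfl le_normalizer h
    rcases hmin (N ⊓ centralizer (N : Set G)) inferInstance inf_le_left with e | e
    · have : s ∈ N ⊓ centralizer (N : Set G) := ⟨hD.mem_normal h2 ht (h3 ▸ pow_orderOf_eq_one s), hs⟩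
      rw [e, mem_bot] at this
      simp [this] at h3
    · exact hN (le_centralizer_iff_isMulCommutative.1 (inf_eq_left.1 e))
  have hs := hD.simple hO h0 hmin hC
  rcases hD.ab.cases N hs hN with ⟨f, hf, F, _, _, hF, ⟨e⟩⟩ | ⟨F, _, _, h5, h8, ⟨e⟩⟩ | ⟨⟨e⟩⟩
  · have hF' := Nat.card_eq_fintype_card.trans hF
    obtain ⟨Γ, h3, h4, h5⟩ := hD.almost N hC ho e hF'
    obtain ⟨e1⟩ := gf 2 f (by omega) hF
    have h8 : 3 ≤ f → 8 ∣ Nat.card G := fun h => ((pow_dvd_pow 2 h).trans (Dvd.intro _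
      ((CIT.App.psl2_even_card (by omega) hF).symm.trans (Nat.card_congr e.toEquiv).symm))).trans (card_subgroup_dvd_card N)
    rcases h3.two hF' hf with rfl | rfl | ⟨rfl, h6⟩
    · have : Fact (Nat.Prime 5) := ⟨Nat.prime_five⟩
      obtain ⟨e2⟩ := h4 (by norm_num)
      obtain ⟨e3⟩ := Ward.psl_equiv_A5 (.inl hF)
      obtain ⟨e4⟩ := Ward.psl_equiv_A5 (.inr (ZMod.card 5))
      exact .inr ⟨5, this, .inr rfl, .inl ⟨(e2.trans e3).trans e4.symm⟩⟩
    · obtain ⟨e2⟩ := h4 (by norm_num)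
      exact .inl ⟨h8 le_rfl, .inr (.inr (.inr (.inr (.inl ⟨e2.trans e1⟩))))⟩
    · obtain ⟨e2⟩ := h5 (by rw [hF']; decide) h6
      exact .inl ⟨h8 (by norm_num), .inr (.inr (.inr (.inr (.inr ⟨e2.trans (MulAut.congr e1)⟩))))⟩
  · obtain ⟨p, _, ⟨f, hf0⟩, hp, hF⟩ := FiniteField.card' F
    replace hF : Fintype.card F = p ^ f := hF
    have := Fact.mk hp
    have hF' := Nat.card_eq_fintype_card.trans hF
    obtain ⟨Γ, h3, h4, -⟩ := hD.almost N hC ho e hF'
    have hp2 : p ≠ 2 := by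
      rintro rfl
      have := hF ▸ dvd_pow_self 2 hf0.ne'
      omega
    have hsq : ∀ k, (p ^ 2) ^ k % 8 = 1 := fun k => by
      obtain ⟨j, hj⟩ := hp.odd_of_ne_two hp2
      obtain ⟨i, hi⟩ := (Nat.even_mul_succ_self j).two_dvd
      rw [Nat.pow_mod, show p ^ 2 = 8 * i + 1 by rw [hj]; nlinarith]
      simp
    have hf : Odd f := Nat.not_even_iff_odd.1 fun ⟨k, hk⟩ => by
      rw [hF, hk, ← two_mul, pow_mul, hsq] at h8
      omega
    rcases h3.odd hp2 hF' hf with rfl | rfl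
    · obtain ⟨e2⟩ := h4 (by norm_num)
      rw [pow_one] at hF
      obtain ⟨e1⟩ := CIT.App.nonempty_psl_equiv 2 (hF.trans (ZMod.card p).symm)
      exact .inr ⟨p, this, hF ▸ h8, .inl ⟨e2.trans e1⟩⟩
    · obtain ⟨e2⟩ := h4 (by norm_num)
      obtain ⟨e1⟩ := gf p 3 (by norm_num) hF
      refine .inr ⟨p, this, ?_, .inr ⟨e2.trans e1⟩⟩
      rwa [hF, pow_succ, Nat.mul_mod, ← pow_one (p ^ 2), hsq, one_mul, Nat.mod_mod] at h8
  · have h3 : N = ⊤ := eq_top_iff.2 fun g _ => by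
      obtain ⟨n, hn⟩ := WCor.inner_of_equiv e (WCor.inner_J1 (MulAut.congr e (MulAut.conjNormal g)))
      have : (n : G)⁻¹ * g ∈ centralizer (N : Set G) := fun x hx => by
        have : g * x * g⁻¹ = n * x * (n : G)⁻¹ := congrArg Subtype.val (hn ⟨x, hx⟩)
        calc _ = (n : G)⁻¹ * (n * x * (n : G)⁻¹) * g := by group
          _ = _ := by rw [← this]; group
      rw [hC, mem_bot, inv_mul_eq_one] at this
      exact this ▸ n.2
    have e1 := topEquiv.symm.trans (MulEquiv.subgroupCongr h3.symm)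
    have h4 := (Nat.card_congr (e1.trans e).toEquiv).trans J1.card_J1
    exact .inl ⟨by rw [h4]; norm_num, .inr (.inr (.inr (.inl ⟨e1.isSimpleGroup, h4⟩)))⟩

theorem DG.main (hD : DG G) (hO : pPrimeCore 2 G = ⊥) : (IsCyclic G ∧ IsPGroup 2 G) ∨
    (Nonempty (G ≃* affineGroup (GaloisField 2 3)) ∨
      Nonempty (G ≃* semiaffineGroup (GaloisField 2 3)) ∨ Nonempty (G ≃* semiaffineGroup (GaloisField 2 5)) ∨
      IsJ1 G ∨ Nonempty (G ≃* PSL(2, GaloisField 2 3)) ∨ Nonempty (G ≃* MulAut PSL(2, GaloisField 2 5))) ∨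
      (L4 G fun K => PSL(2, K)) ∨ L4 G fun K => SL(2, K) := by
  have : Fact (Nat.Prime 2) := ⟨Nat.prime_two⟩
  obtain ⟨S⟩ : Nonempty (Sylow 2 G) := inferInstance
  by_cases hc : IsCyclic S
  · have h1 : IsPGroup 2 G := fun x => by
      obtain ⟨j, m, hm, e⟩ := Nat.exists_eq_two_pow_mul_odd (orderOf_pos x).ne'
      refine ⟨j, mem_bot.1 (hO ▸ GW.mem_pPrimeCore_of_npc (GW.npc_of_cyclic S hc) (hm.of_dvd_nat ?_))⟩
      rw [orderOf_dvd_iff_pow_eq_one, ← pow_mul, ← e, pow_orderOf_eq_one]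
    have h2 : ⊤ = (S : Subgroup G) := S.is_maximal' (h1.to_subgroup ⊤) le_top
    exact .inl ⟨(topEquiv.symm.trans (MulEquiv.subgroupCongr h2)).isCyclic.2 hc, h1⟩
  rcases hD.exp_or S.isPGroup' with h | h | ⟨-, ⟨e⟩⟩
  · exact .inr ((hD.elem hO S h hc).imp (·.2) .inl)
  · exact absurd h hc
  obtain ⟨z, hz⟩ := GW.Cor.exists_quatData hO S (n := 0) e
  have hZ : Nat.card (center G) = 2 := by rw [hz.center, Nat.card_zpowers, hz.ord]
  have h8 : ¬ 8 ∣ Nat.card (G ⧸ center G) := fun h => by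
    have := S.pow_dvd_card_of_pow_dvd_card (n := 4) (by
      rw [card_eq_card_quotient_mul_card_subgroup (center G), hZ]; exact Nat.mul_dvd_mul_right h 2)
    rw [Nat.card_congr e.toEquiv, Nat.card_eq_fintype_card, QuaternionGroup.card] at this
    norm_num at this
  obtain ⟨T, n, r, s, hn, hT⟩ := hz.dih
  have hD' := hD.of_surjective (QuotientGroup.mk'_surjective (center G))
  have hc' : ¬ IsCyclic T := fun h => by
    obtain ⟨b, hb⟩ := (Subgroup.isCyclic_iff_exists_zpowers_eq_top _).1 h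
    have h1 := DihSyl.mem_zpowers_of_orderOf_dvd (isOfFinOrder_of_finite b) (hb ▸ hT.rpows_mem 1) (hb ▸ hT.rpows_mem 0)
      (by rw [hT.orderOf_rpows, hT.orderOf_rpows])
    rcases (TwoGrp.mem_zpowers_iff_of_mul_self (hT.rpows_sq 0)).1 h1 with h2 | h2
    · exact hT.rpows_ne_one 1 h2
    · have := Int.le_of_dvd one_pos (by simpa using hT.eq_iff.1 (mul_right_cancel h2))
      omega
  rcases hD'.exp_or T.isPGroup' with h | h | ⟨-, ⟨e'⟩⟩
  · obtain ⟨p, _, h1, h2⟩ := (hD'.elem hz.core T h hc').resolve_left fun h => h8 h.1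
    have key : ∀ (K : Type) [Field K] [Finite K], Odd (Nat.card K) → Nonempty (G ⧸ center G ≃* PSL(2, K)) →
        Nonempty (G ≃* SL(2, K)) := fun K _ _ ho ⟨f⟩ => by
      have := Fintype.ofFinite K
      have hk : (f.toMonoidHom.comp (QuotientGroup.mk' _)).ker = center G := by ext; simp
      exact GW.Cor.cover_SL2 (Nat.card_eq_fintype_card (α := K) ▸ ho) _ (f.surjective.comp (QuotientGroup.mk'_surjective _))
        hk.le (by rw [hk, hZ]) fun x hx => hk.ge (hz.center ▸ (hz.inv x hx).elim (· ▸ one_mem _) (· ▸ mem_zpowers _))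
    have ho : Odd p := Nat.odd_iff.2 (by omega)
    exact .inr (.inr (.inr ⟨p, _, h1, h2.imp (key _ (by rwa [Nat.card_zmod]))
      (key _ (by rw [GaloisField.card p 3 (by norm_num)]; exact ho.pow))⟩))
  · exact absurd h hc'
  · refine absurd ((dvd_of_eq ?_).trans (card_subgroup_dvd_card (T : Subgroup _))) h8
    rw [Nat.card_congr e'.toEquiv, Nat.card_eq_fintype_card, QuaternionGroup.card]

end CfsgLib.WCor4
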