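import Mathlib
import Cfsg.Agent.Lib.WCor4.Cg
import Cfsg.Agent.Lib.SL2.SylowTwo
import Cfsg.Agent.Lib.SL2.PSL
import Cfsg.Agent.Lib.PGroup.Basic

/-! Redundant Sylow subgroups. -/

set_option autoImplicit false
set_option linter.unusedSectionVars false

namespace CfsgLib.WCor4

open Subgroup Cfsg CfsgLib.Tech Matrix MatrixGroups

/-- some `p`-element lies in a unique Sylow `p`-subgroup -/
def Uq (p : ℕ) (G : Type*) [Group G] : Prop := ∃ x : G, IsPGroup p (zpowers x) ∧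
  ∀ P Q : Subgroup G, IsSylowIn p P ⊤ → IsSylowIn p Q ⊤ → x ∈ P → x ∈ Q → P = Q

section
variable {G : Type*} [Group G] [Finite G] {p : ℕ} [hp : Fact p.Prime]

theorem red_iff : (∃ Q : Sylow p G, ∀ x : G, (∃ k : ℕ, orderOf x = p ^ k) → ∃ P : Sylow p G, P ≠ Q ∧ x ∈ P) ↔
    ¬ Uq p G := by
  refine ⟨fun ⟨Q, h⟩ ⟨x, h1, h2⟩ => ?_, fun h => ?_⟩
  · have hQ := IsSylowIn.of_sylow_top Q
    obtain ⟨g, -, h3⟩ := hQ.exists_conj_mem (mem_top x) h1
    obtain ⟨P, h4, h5⟩ := h _ (isPGroup_zpowers_iff.1 (isPGroup_zpowers_of_mem Q.isPGroup' h3))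
    exact h4 (Sylow.ext (cj_injective g⁻¹ (h2 _ _ ((IsSylowIn.of_sylow_top P).cj_of_mem (mem_top _))
      (hQ.cj_of_mem (mem_top _)) (mem_cj.2 (by rwa [inv_inv])) (mem_cj.2 (by rwa [inv_inv])))))
  · obtain ⟨Q⟩ : Nonempty (Sylow p G) := inferInstance
    refine ⟨Q, fun x hx => by_contra fun h1 => h ⟨x, isPGroup_zpowers_iff.2 hx, fun P R p1 r1 p2 r2 => ?_⟩⟩
    push Not at h1
    exact (congrArg Sylow.toSubgroup (by_contra fun e => h1 p1.toSylowTop e p2)).trans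
      (congrArg Sylow.toSubgroup (by_contra fun e => h1 r1.toSylowTop e r2)).symm

theorem uq_iff {Y : Type*} [Group Y] {f : G →* Y} (hf : Function.Surjective f) (hk : f.ker ≤ center G) :
    Uq p G ↔ Uq p Y := by
  have := Finite.of_surjective f hf
  have key : ∀ P R : Subgroup G, IsSylowIn p P ⊤ → IsPGroup p R → R.map f ≤ P.map f → R ≤ P := fun P R h1 h2 h3 =>
    h1.le_of_normalizes h2 le_top ((map_le_map_iff.1 h3).trans
      (sup_le le_normalizer (hk.trans (center_le_normalizer _))))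
  refine ⟨fun ⟨x, h1, h2⟩ => ⟨f x, f.map_zpowers x ▸ h1.map f, fun P Q p1 q1 p2 q2 => ?_⟩, fun ⟨y, h1, h2⟩ => ?_⟩
  · obtain ⟨P, p3⟩ := Sylow.mapSurjective_surjective hf p p1.toSylowTop
    obtain ⟨Q, q3⟩ := Sylow.mapSurjective_surjective hf p q1.toSylowTop
    obtain rfl : (P : Subgroup G).map f = _ := congrArg Sylow.toSubgroup p3
    obtain rfl : (Q : Subgroup G).map f = _ := congrArg Sylow.toSubgroup q3
    rw [h2 _ _ (.of_sylow_top P) (.of_sylow_top Q)
      (key _ _ (.of_sylow_top P) h1 (f.map_zpowers x ▸ zpowers_le.2 p2) (mem_zpowers x))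
      (key _ _ (.of_sylow_top Q) h1 (f.map_zpowers x ▸ zpowers_le.2 q2) (mem_zpowers x))]
  · obtain ⟨R, r1, r2⟩ := exists_sylow_comap hf _ h1
    obtain ⟨x, x1, rfl⟩ := r2.ge (mem_zpowers y)
    refine ⟨x, isPGroup_zpowers_of_mem r1.pgroup x1, fun P Q p1 q1 p2 q2 => ?_⟩
    have := h2 _ _ (IsSylowIn.map_top hf p1) (IsSylowIn.map_top hf q1) (mem_map_of_mem f p2) (mem_map_of_mem f q2)
    exact le_antisymm (key _ _ q1 p1.pgroup this.le) (key _ _ p1 q1.pgroup this.ge)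

end

open SL2

variable {F : Type*} [Field F] [Fintype F]

theorem uq_sl {p : ℕ} [hp : Fact p.Prime] (h : ∀ x : SL(2, F), orderOf x = p → ¬ IsScal x) : Uq p SL(2, F) := by
  by_cases h1 : p ∣ Nat.card SL(2, F)
  · obtain ⟨x, hx⟩ := exists_prime_orderOf_dvd_card' p h1
    have key : ∀ P, IsSylowIn p P ⊤ → x ∈ P → P ≤ centralizer {x} := fun P p1 p2 y hy => by
      obtain ⟨c, c1, c2⟩ := Core.exists_mem_orderOf_eq_of_isPGroup (p1.pgroup.to_le inf_le_left)
        (Core.inf_centralizer_ne_bot_of_isPGroup p1.pgroup p1.pgroup le_normalizer fun e => by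
          rw [e, mem_bot] at p2
          exact h x hx (p2 ▸ isScal_one))
      exact mem_centralizer_singleton_iff.2 (commute_of_commute (h c c2) (c1.2 y hy) (c1.2 x p2))
    have k2 : ∀ P Q, IsSylowIn p P ⊤ → IsSylowIn p Q ⊤ → x ∈ P → x ∈ Q → P ≤ Q := fun P Q p1 q1 p2 q2 =>
      q1.le_of_normalizes p1.pgroup le_top (le_trans (fun y hy => mem_centralizer_iff.2 fun z hz => commute_of_commute (h x hx)
        (mem_centralizer_singleton_iff.1 (key Q q1 q2 hz)) (mem_centralizer_singleton_iff.1 (key P p1 p2 hy)))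
        (centralizer_le_normalizer _))
    exact ⟨x, isPGroup_zpowers_iff.2 ⟨1, by rw [hx, pow_one]⟩, fun P Q p1 q1 p2 q2 =>
      le_antisymm (k2 P Q p1 q1 p2 q2) (k2 Q P q1 p1 q2 p2)⟩
  · have key : ∀ P : Subgroup SL(2, F), IsPGroup p P → P = ⊥ := fun P hP => by_contra fun e =>
      h1 ((Core.dvd_card_of_isPGroup_of_ne_bot hP e).trans (card_subgroup_dvd_card P))
    exact ⟨1, isPGroup_zpowers_of_pow (k := 0) (one_pow _), fun P Q p1 q1 _ _ => by rw [key P p1.pgroup, key Q q1.pgroup]⟩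

theorem uq_two (ho : Odd (Fintype.card F)) :
    Uq 2 SL(2, F) ↔ (∃ k : ℕ, Fintype.card F + 1 = 2 ^ k) ∨ ∃ k : ℕ, Fintype.card F = 2 ^ k + 1 := by
  have := Fact.mk Nat.prime_two
  have h2 := two_ne_zero_of_odd ho
  have hq := Fintype.one_lt_card (α := F)
  obtain ⟨S⟩ : Nonempty (Sylow 2 SL(2, F)) := inferInstance
  obtain ⟨z, z1, z2, z3⟩ := exists_sylow_two_le_normalizer ho S
  have z4 := tr_sq_ne_of_tr_zero h2 z2
  refine ⟨fun ⟨x, h1, h3⟩ => ?_, fun h => ?_⟩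
  · obtain ⟨y, y1, y2⟩ : ∃ y : SL(2, F), tr y = 0 ∧ x * y = y * x := by
      by_cases h4 : x ∈ center SL(2, F)
      · exact ⟨z, z2, (mem_center_iff.1 h4 z).symm⟩
      obtain ⟨k, hk⟩ := isPGroup_iff_mem.1 h1 x (mem_zpowers x)
      obtain ⟨j, j1, j2⟩ := PGroup.exists_pow_not_mem_pow_mem (hk ▸ one_mem _) h4
      rw [mem_center_iff_isScal] at j1 j2
      exact ⟨_, (sq_eq_neg_one_of_isScal_sq j1 (pow_two (x ^ 2 ^ j) ▸ j2)).1, (Commute.pow_self x _).symm.eq⟩
    have y3 := tr_sq_ne_of_tr_zero h2 y1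
    obtain ⟨g, rfl⟩ := isConj_iff.1 (isConj_of_tr_eq z4 (z2.trans y1.symm))
    have h4 : ((g • S : Sylow 2 SL(2, F)) : Subgroup SL(2, F)) ≤ normalizer (centralizer {g * z * g⁻¹} : Set SL(2, F)) := by
      rw [coe_smul_sylow, ← cj_centralizer_singleton, ← cj_normalizer]
      exact cj_mono g z3
    have h5 := IsSylowIn.of_sylow_top (g • S)
    have h6 := zpowers_le.2 (mem_centralizer_singleton_iff.2 y2)
    have h7 : x ∈ ((g • S : Sylow 2 SL(2, F)) : Subgroup SL(2, F)) := (h5.of_le h4 le_top).le_of_le_normalizer h1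
      (h6.trans le_normalizer) (fun n hn => mem_normalizer_iff_cj.2 (Ree.eq_of_card_eq_of_isCyclic
        (isCyclic_centralizer_regular y3) ((cj_mono n h6).trans (mem_normalizer_iff_cj.1 hn).le) h6 (card_cj _ _)))
      (mem_zpowers x)
    obtain ⟨k, hk⟩ := IsPGroup.iff_card.1 ((g • S).isPGroup'.to_le (H := centralizer {g * z * g⁻¹}) fun n hn =>
      mem_sylow_of_mem_normalizers ho (g • S) y1 h4 (mem_normalizer_iff_cj.2 (h3 _ _ (h5.cj_of_mem (mem_top n)) h5 (by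
        rw [mem_cj, mul_assoc, commute_of_commute (not_isScal_of_tr y3) y2 (mem_centralizer_singleton_iff.1 hn),
          inv_mul_cancel_left]
        exact h7) h7)) (le_normalizer hn))
    rcases card_centralizer_regular y3 with e | e
    exacts [.inr ⟨k, by omega⟩, .inl ⟨k, e.symm.trans hk⟩]
  have h1 : ∃ k, Nat.card (centralizer {z} : Subgroup SL(2, F)) = 2 ^ k := by
    have h3 : 4 ∣ Nat.card (centralizer {z} : Subgroup SL(2, F)) := by
      rw [show 4 = 2 ^ (1 + 1) from rfl, ← orderOf_eq_prime_pow (x := z) (p := 2) (n := 1) (fun e => not_isScal_of_tr z4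
        ((sq_eq_one_iff_isScal h2 z).1 (by rwa [← pow_two]))) (pow_four_of_tr_zero z2)]
      exact orderOf_dvd_natCard _ (mem_centralizer_singleton_iff.2 rfl)
    rcases card_centralizer_regular z4 with e | e <;> rw [e] at h3 ⊢ <;> rcases h with ⟨k, h⟩ | ⟨k, h⟩
    · rcases k with _ | _ | k <;> omega
    · exact ⟨k, by omega⟩
    · exact ⟨k, h⟩
    · rcases k with _ | _ | k
      · omega
      · exact ⟨2, by omega⟩
      · omega
  obtain ⟨k, hk⟩ := h1
  have h3 := card_normalizer_torus z4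
  have h4 := (IsSylowIn.of_sylow_top S).eq_of_le (.of_card (n := k + 1) (by rw [h3, hk, pow_succ'])) z3 le_top
  obtain ⟨t, ht⟩ := (Subgroup.isCyclic_iff_exists_zpowers_eq_top _).1 (isCyclic_centralizer_regular z4)
  have key : ∀ P, IsSylowIn 2 P ⊤ → t ∈ P → P = S := fun P p1 p2 => by
    have p3 : centralizer {z} ≤ P := ht ▸ zpowers_le.2 p2
    have p4 := p1.card_eq (IsSylowIn.of_sylow_top S)
    refine eq_of_le_of_card_ge (h4 ▸ (normal_subgroupOf_iff_le_normalizer p3).1 (normal_of_index_eq_two ?_)) p4.ge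
    exact Nat.eq_of_mul_eq_mul_left Nat.card_pos ((card_mul_relIndex' p3).trans (by rw [p4, ← h4, h3, mul_comm]))
  exact ⟨t, ht ▸ .of_card hk, fun P Q p1 q1 p2 q2 => (key P p1 p2).trans (key Q q1 q2).symm⟩

theorem uq_sl_iff (p : ℕ) [hp : Fact p.Prime] : ¬ Uq p SL(2, F) ↔ p = 2 ∧ (¬ ∃ k : ℕ, Fintype.card F + 1 = 2 ^ k) ∧
    (¬ ∃ k : ℕ, Fintype.card F = 2 ^ k) ∧ ¬ ∃ k : ℕ, Fintype.card F = 2 ^ k + 1 := by
  by_cases h : p = 2
  · subst h
    rcases Nat.even_or_odd (Fintype.card F) with h | h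
    · refine iff_of_false (not_not.2 (uq_sl fun x hx e => ?_)) fun e => e.2.2.1 ?_
      · rw [← mem_center_iff_isScal, center_eq_bot_of_two (two_eq_zero_of_even h), mem_bot] at e
        simp [e] at hx
      · obtain ⟨p, _, n, hp, e⟩ := FiniteField.card' F
        exact ⟨n, by rw [e, (Nat.prime_dvd_prime_iff_eq Nat.prime_two hp).1
          (Nat.prime_two.dvd_of_dvd_pow (e ▸ h.two_dvd))]⟩
    rw [uq_two h, not_or]
    refine ⟨fun e => ⟨rfl, e.1, fun ⟨k, hk⟩ => ?_, e.2⟩, fun e => ⟨e.2.1, e.2.2.2⟩⟩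
    have := Fintype.one_lt_card (α := F)
    obtain ⟨j, hj⟩ := h
    rcases k with _ | k <;> omega
  refine iff_of_false (not_not.2 (uq_sl fun x hx e => h ((Nat.prime_dvd_prime_iff_eq hp.out Nat.prime_two).1
    (hx ▸ orderOf_dvd_of_pow_eq_one ?_)))) fun e => h e.1
  rcases (isScal_iff x).1 e with rfl | rfl <;> simp

end CfsgLib.WCor4
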